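import Groth.Agent.L08.Borel.IsoBase
import Groth.Agent.L08.Borel.Geom
import Groth.Agent.L08.Borel.BaseChange
import Groth.Agent.L08.Borel.BorelPreimage

/-!
# Borel subgroups over an algebraically closed field and geometric Borel subgroups
-/

set_option autoImplicit false
set_option backward.isDefEq.respectTransparency.types false
set_option linter.style.haveILetI false
set_option linter.unusedSectionVars false

universe u

open CategoryTheory CategoryTheory.Limits MonoidalCategory CartesianMonoidalCategory MonObj AlgebraicGeometry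
open Groth.L08.Borel

noncomputable section

namespace Groth.L16.Weights

variable {K k : Type u} [Field K] [Field k] [IsAlgClosed K] [IsAlgClosed k]

/-- Borel subgroups transfer along isomorphisms of the ambient group. -/
theorem isBorelOver_comp_iso {G G' B : Over (Spec (CommRingCat.of K))} [GrpObj G] [GrpObj G'] [GrpObj B] {b : B ⟶ G}
    (hB : Red.IsBorelOver K b) (e : G ≅ G') [IsMonHom e.hom] : Red.IsBorelOver K (b ≫ e.hom) := by
  haveI := hB.1; haveI := hB.2.1
  haveI : IsIso e.hom.left := inferInstanceAs (IsIso ((Over.forget _).map e.hom))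
  haveI : IsIso e.inv.left := inferInstanceAs (IsIso ((Over.forget _).map e.inv))
  haveI : IsMonHom e.inv := isMonHom_of_comp_mono e.inv e.hom (𝟙 G') e.inv_hom_id
  refine ⟨inferInstance, inferInstanceAs (IsClosedImmersion (b.left ≫ e.hom.left)), hB.2.2.1, hB.2.2.2.1,
    hB.2.2.2.2.1, fun B' _ i' _ f hc hs hcon hsol hf => ?_⟩
  haveI := hc
  exact hB.2.2.2.2.2 B' (i' ≫ e.inv) f (inferInstanceAs (IsClosedImmersion (i'.left ≫ e.inv.left))) hs hcon hsol
    (by rw [← Category.assoc, hf, Category.assoc, Iso.hom_inv_id, Category.comp_id])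

/-- Borel subgroups are transported by an isomorphism of base fields. -/
theorem isBorelOver_bc (θ : Spec (CommRingCat.of K) ⟶ Spec (CommRingCat.of k))
    (ι' : Spec (CommRingCat.of k) ⟶ Spec (CommRingCat.of K)) (h1 : ι' ≫ θ = 𝟙 _) (h2 : θ ≫ ι' = 𝟙 _)
    {G B : Over (Spec (CommRingCat.of k))} [GrpObj G] [GrpObj B] {i : B ⟶ G} (h : Red.IsBorelOver k i) :
    Red.IsBorelOver K ((Over.pullback θ).map i) := by
  haveI := h.1; haveI := h.2.1; haveI := h.2.2.1; haveI := h.2.2.2.1
  refine ⟨Groth.L25.MonoClosed.isMonHom_pullbackMap _ _, isClosedImmersion_map θ i, smooth_bc θ B,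
    connectedSpace_bc' θ B, isSolvableGrp_bc θ h.2.2.2.2.1, fun B' _ i' _ f hc hs hcon hsol hf => ?_⟩
  haveI := hc; haveI := hs; haveI := hcon
  haveI := isMonHom_backIso θ ι' h1 G
  haveI : IsMonHom ((Over.pullback ι').map i') := Groth.L25.MonoClosed.isMonHom_pullbackMap _ _
  let j'' : Red.bc ι' B' ⟶ G := (Over.pullback ι').map i' ≫ (backIso θ ι' h1 G).hom
  haveI : IsMonHom j'' := inferInstanceAs (IsMonHom (_ ≫ _))
  let f'' : B ⟶ Red.bc ι' B' := (backIso θ ι' h1 B).inv ≫ (Over.pullback ι').map f
  haveI : IsClosedImmersion ((Over.pullback ι').map i').left := isClosedImmersion_map ι' i'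
  haveI : IsIso (backIso θ ι' h1 G).hom.left :=
    inferInstanceAs (IsIso ((Over.forget _).map (backIso θ ι' h1 G).hom))
  have hj : IsClosedImmersion j''.left :=
    inferInstanceAs (IsClosedImmersion (((Over.pullback ι').map i').left ≫ (backIso θ ι' h1 G).hom.left))
  haveI hi : IsIso f'' := h.2.2.2.2.2 _ j'' f'' hj (smooth_bc ι' B') (connectedSpace_bc' ι' B')
    (isSolvableGrp_bc ι' hsol) (by
      simp only [f'', j'', Category.assoc]
      rw [← Functor.map_comp_assoc, hf, backIso_naturality, Iso.inv_hom_id_assoc])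
  have e : (Over.pullback ι').map f = (backIso θ ι' h1 B).hom ≫ f'' := by simp only [f'', Iso.hom_inv_id_assoc]
  haveI : IsIso ((Over.pullback ι').map f) := by rw [e]; infer_instance
  have e' := backIso_naturality ι' θ h2 f
  rw [← Iso.inv_comp_eq] at e'
  rw [← e']
  infer_instance

variable {G B : Over (Spec (CommRingCat.of k))} [GrpObj G] [GrpObj B] {i : B ⟶ G}

/-- A Borel subgroup over an algebraically closed field is a geometric Borel subgroup. -/
theorem isBorel_of_isBorelOver (h : Red.IsBorelOver k i) : Red.IsBorel i := by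
  refine ⟨h.1, h.2.1, h.2.2.1, fun s => ?_⟩
  obtain ⟨ι', h1, h2⟩ := exists_inverse_geomPt s
  exact isBorelOver_bc (Red.geomPt s) ι' h1 h2 h

/-- A geometric Borel subgroup over an algebraically closed field is a Borel subgroup. -/
theorem isBorelOver_of_isBorel (h : Red.IsBorel i) : Red.IsBorelOver k i := by
  obtain ⟨s⟩ : Nonempty ↥(Spec (CommRingCat.of k)) := inferInstanceAs (Nonempty (PrimeSpectrum k))
  obtain ⟨ι', h1, h2⟩ := exists_inverse_geomPt s
  haveI := h.1
  haveI := isMonHom_backIso (Red.geomPt s) ι' h1 G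
  have h' := isBorelOver_comp_iso (isBorelOver_bc ι' (Red.geomPt s) h2 h1 (h.2.2.2 s)) (backIso (Red.geomPt s) ι' h1 G)
  refine isBorelOver_iso_comp h' (backIso (Red.geomPt s) ι' h1 B).symm i ?_
  rw [backIso_naturality, Iso.symm_hom, Iso.inv_hom_id_assoc]

end Groth.L16.Weights
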