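import Groth.Agent.L16.Weights.Filt
import Groth.Agent.L14.TypeR.Borel
import Groth.Agent.L14.Chev.Cell.Open
import Groth.Agent.L14.Chev.Cell.Reflect
import Groth.Agent.L25.ParabolicSet
import Groth.Agent.S5491

/-!
# A split connected reductive group as a contracting torus setting
-/

set_option autoImplicit false
set_option backward.isDefEq.respectTransparency.types false
set_option linter.unusedSectionVars false
set_option linter.style.haveILetI false
set_option maxHeartbeats 1000000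

universe u

open CategoryTheory MonoidalCategory CartesianMonoidalCategory MonObj AlgebraicGeometry
open Groth.L14.RankOne Groth.L14.Chart Groth.L14.Chev Groth.L14.Chev.Cell
open scoped TensorProduct LaurentPolynomial
open Groth.L25.Observable (ptAct ptAct_spec val val_mul val_comp eq_of_forall_val ptAct_mul ptAct_one)

noncomputable section

namespace Groth.L16.Weights

variable {k : Type u} [Field k]

local notation "U1" => 𝟙_ (Over (Spec (CommRingCat.of k)))

section Cochar

variable {G : Over (Spec (CommRingCat.of k))} [GrpObj G] (D : Red.SplitRed G)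

/-- The one-parameter subgroup of a functional, inside the torus. -/
def cocharT (lam : D.M →+ ℤ) : Cochar D.T where
  pt := sg k[T;T⁻¹] ≫ tpt D (base k) (chiLam k lam)
  one := by
    rw [reassoc_of% (ptMap_sg (laurOne k)), mor_tpt (base k) (laurOne k) (chiLam k lam),
      show ((laurOne k : k[T;T⁻¹] →* k).comp (chiLam k lam)) = 1 from MonoidHom.ext fun m => laurOne_T _,
      tpt_one, MonObj.comp_one]
  mul := by
    rw [reassoc_of% (ptMap_sg (laurComul k)), reassoc_of% (ptMap_sg
      (Algebra.TensorProduct.includeLeft (R := k) (S := k) (A := k[T;T⁻¹]) (B := k[T;T⁻¹]))),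
      reassoc_of% (ptMap_sg (Algebra.TensorProduct.includeRight (R := k) (A := k[T;T⁻¹]) (B := k[T;T⁻¹]))),
      mor_tpt, mor_tpt, mor_tpt, ← MonObj.comp_mul, ← tpt_mul]
    congr 1
    refine congrArg (tpt D _) (MonoidHom.ext fun m => ?_)
    refine (laurComul_T _).trans ?_
    show _ = (LaurentPolynomial.T _ ⊗ₜ[k] (1 : k[T;T⁻¹])) * ((1 : k[T;T⁻¹]) ⊗ₜ[k] LaurentPolynomial.T _)
    rw [Algebra.TensorProduct.tmul_mul_tmul, _root_.one_mul, _root_.mul_one]

variable [IsMonHom D.i]

theorem cocharT_map (lam : D.M →+ ℤ) : ((cocharT D lam).map D.i).pt = (cochar D lam).pt := Category.assoc _ _ _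

theorem cocharT_neg (lam : D.M →+ ℤ) : (cocharT D lam).neg.pt = (cocharT D (-lam)).pt := by
  show VecGrp.ptMap _ ≫ sg _ ≫ tpt D (base k) (chiLam k lam) = sg _ ≫ tpt D (base k) (chiLam k (-lam))
  rw [reassoc_of% (ptMap_sg (LaurentPolynomial.invert (R := k)).toAlgHom),
    mor_tpt (base k) (LaurentPolynomial.invert (R := k)).toAlgHom (chiLam k lam)]
  exact congrArg (fun χ => sg _ ≫ tpt D (base k) χ) (MonoidHom.ext fun a => LaurentPolynomial.invert_T _)

theorem cocharT_add (lam mu : D.M →+ ℤ) : (cocharT D (lam + mu)).pt = (cocharT D lam).pt * (cocharT D mu).pt := by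
  show sg _ ≫ tpt D (base k) _ = (sg _ ≫ tpt D (base k) _) * (sg _ ≫ tpt D (base k) _)
  rw [← MonObj.comp_mul, ← tpt_mul]
  exact congrArg (fun χ => sg _ ≫ tpt D (base k) χ) (MonoidHom.ext fun a => LaurentPolynomial.T_add _ _)

theorem cocharT_zero : (cocharT D 0).pt = 1 := by
  show sg _ ≫ tpt D (base k) _ = 1
  rw [show chiLam k (0 : D.M →+ ℤ) = 1 from MonoidHom.ext fun a => LaurentPolynomial.T_zero, tpt_one, MonObj.comp_one]

variable {V : Type u} [AddCommGroup V] [Module k V] (ρ : VecGrp.GMod D.T V)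

theorem part_congr {H : Over (Spec (CommRingCat.of k))} [GrpObj H] (σ : VecGrp.GMod H V) {L L' : Cochar H}
    (h : L.pt = L'.pt) (n : ℤ) : part L σ n = part L' σ n := by
  ext v; rw [mem_part, mem_part, h]

theorem part_add {lam mu : D.M →+ ℤ} {p q : ℤ} {v : V} (hp : v ∈ part (cocharT D lam) ρ p)
    (hq : v ∈ part (cocharT D mu) ρ q) : v ∈ part (cocharT D (lam + mu)) ρ (p + q) := by
  rw [mem_part, cocharT_add, map_mul, LinearEquiv.mul_apply, (mem_part _ ρ).1 hq,
    show (LaurentPolynomial.T q ⊗ₜ[k] v : k[T;T⁻¹] ⊗[k] V) =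
      (LaurentPolynomial.T q : k[T;T⁻¹]) • ((1 : k[T;T⁻¹]) ⊗ₜ[k] v) by
      rw [TensorProduct.smul_tmul', smul_eq_mul, _root_.mul_one],
    map_smul, (mem_part _ ρ).1 hp, TensorProduct.smul_tmul', smul_eq_mul, ← LaurentPolynomial.T_add, add_comm p q]

theorem mem_part_zero (v : V) : v ∈ part (cocharT D 0) ρ 0 := by
  rw [mem_part, cocharT_zero, map_one, LaurentPolynomial.T_zero]
  rfl

theorem part_zsmul {mu : D.M →+ ℤ} {q : ℤ} {v : V} (hq : v ∈ part (cocharT D mu) ρ q) (c : ℤ) :
    v ∈ part (cocharT D (c • mu)) ρ (c * q) := by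
  have hneg : v ∈ part (cocharT D (-mu)) ρ (-q) := by
    rw [← part_congr ρ (cocharT_neg D mu), part_neg, neg_neg]
    exact hq
  induction c using Int.induction_on with
  | zero => rw [zero_smul, zero_mul]; exact mem_part_zero D ρ v
  | succ c ih => rw [add_smul, one_smul, add_mul, _root_.one_mul]; exact part_add D ρ ih hq
  | pred c ih =>
    rw [sub_eq_add_neg, add_smul, neg_one_zsmul, add_mul, neg_one_mul]
    exact part_add D ρ ih hneg

theorem deg_zero_eq {n : ℤ} {v : V} (hv : v ∈ part (cocharT D 0) ρ n) (h0 : v ≠ 0) : n = 0 := by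
  by_contra hn
  have h1 := proj_of_mem _ ρ hv 0
  rw [proj_of_mem _ ρ (mem_part_zero D ρ v), if_pos rfl, if_neg hn] at h1
  exact h0 h1

end Cochar

variable [IsAlgClosed k] {G : Over (Spec (CommRingCat.of k))} [GrpObj G] (D : Red.SplitRed G) [IsMonHom D.i]

/-- The coroot as a functional. -/
abbrev coH (a : D.idx) : D.M →+ ℤ := (D.P.coroot' a).toAddMonoidHom

/-- The functional of twice the half sum of the positive coroots. -/
def rhoH (b : D.P.Base) : D.M →+ ℤ :=
  haveI : DecidablePred fun c => c ∈ RedSub.posRoots D.P b := Classical.decPred _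
  ∑ c ∈ Finset.univ.filter (fun c => c ∈ RedSub.posRoots D.P b), coH D c

theorem rhoH_root (b : D.P.Base) (c : D.idx) :
    (c ∈ RedSub.posRoots D.P b → 0 < rhoH D b (D.P.root c)) ∧
      (c ∈ RedSub.negRoots D.P b → rhoH D b (D.P.root c) < 0) := by
  classical
  haveI : Finite D.idx := Finite.of_fintype _
  haveI := isReduced D.P b
  have key : ∀ c, c ∈ RedSub.posRoots D.P b → 0 < rhoH D b (D.P.root c) := by
    intro c hc
    have h := Groth.Agent.S5491.result D.P b c
    have hp : 0 < b.height c := (Groth.L25.ParabolicSet.isPos_iff_mem D.P b c).2 hc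
    have e : rhoH D b (D.P.root c) = ∑ j, if b.IsPos j then D.P.pairing c j else 0 := by
      rw [rhoH, AddMonoidHom.finsetSum_apply, Finset.sum_filter]
      refine Finset.sum_congr rfl fun j _ => ?_
      simp only [← Groth.L25.ParabolicSet.isPos_iff_mem D.P b j]
      split_ifs <;> rfl
    rw [e, ← h]
    omega
  refine ⟨key c, fun hc => ?_⟩
  have hneg : D.P.reflectionPerm c c ∈ RedSub.posRoots D.P b := by
    show D.P.root (D.P.reflectionPerm c c) ∈ AddSubmonoid.closure _
    rw [root_neg']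
    exact hc
  have := key _ hneg
  rw [root_neg', map_neg] at this
  omega

variable {V : Type u} [AddCommGroup V] [Module k V] (ρ : VecGrp.GMod G V)

/-- A reflecting point moves parts to reflected parts. -/
theorem ptAct_refl_mem_part {a : D.idx} {n : U1 ⟶ G} (hn : ActsBy n a) {mu : D.M →+ ℤ} {m : ℤ} {w : V}
    (hw : w ∈ part (cocharT D (mu.comp (D.P.reflection a).toLinearMap.toAddMonoidHom)) (comap ρ D.i) m) :
    ptAct ρ (toUnit _ ≫ n) w ∈ part (cocharT D mu) (comap ρ D.i) m := by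
  let C := k[T;T⁻¹]
  let gB : VecGrp.pt k C ⟶ G := toUnit _ ≫ n
  have hg : ρ.ρ C gB ((1 : C) ⊗ₜ[k] w) = (1 : C) ⊗ₜ[k] ptAct ρ (toUnit _ ≫ n) w := by
    have h := congrArg (VecGrp.Wmap (Algebra.ofId k C)) (ptAct_spec ρ (toUnit _ ≫ n) w)
    rwa [ρ.naturality, VecGrp.Wmap_tmul, VecGrp.Wmap_tmul, map_one, ← Category.assoc,
      toUnit_unique (VecGrp.ptMap (Algebra.ofId k C) ≫ toUnit _) (toUnit _)] at h
  let L₁ : VecGrp.pt k C ⟶ G := (cocharT D mu).pt ≫ D.i
  let L₂ : VecGrp.pt k C ⟶ G := (cocharT D (mu.comp (D.P.reflection a).toLinearMap.toAddMonoidHom)).pt ≫ D.i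
  have hc : L₁ * gB = gB * L₂ := by
    have h := (actsBy_inv hn) k (base k) C (chiLam k mu)
    have h' := congrArg (fun s => sg (k := k) C ≫ s) h
    simp only [MonObj.comp_mul, GrpObj.comp_inv, ← Category.assoc] at h'
    rw [toUnit_unique (sg (k := k) C ≫ toUnit _) (toUnit _)] at h'
    have h'' : gB⁻¹ * L₁ * gB = L₂ := by
      refine Eq.trans ?_ h'
      simp only [gB, L₁, cocharT, _root_.inv_inv, Category.assoc]
      rfl
    rw [← h'']
    group
  have hs : (LaurentPolynomial.T m ⊗ₜ[k] w : C ⊗[k] V) = (LaurentPolynomial.T m : C) • ((1 : C) ⊗ₜ[k] w) := by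
    rw [TensorProduct.smul_tmul', smul_eq_mul, _root_.mul_one]
  rw [mem_part, comap_apply, ← hg, ← LinearEquiv.mul_apply, ← map_mul, hc, map_mul, LinearEquiv.mul_apply,
    show ρ.ρ C L₂ ((1 : C) ⊗ₜ[k] w) = LaurentPolynomial.T m ⊗ₜ[k] w from (mem_part _ _).1 hw, hs, map_smul, hg,
    TensorProduct.smul_tmul', smul_eq_mul, _root_.mul_one]

section Nonneg

variable [IsAffine G.left] [Smooth G.hom] [IsAffine D.T.left] [Smooth D.T.hom]
  {U U' : Over (Spec (CommRingCat.of k))} [GrpObj U] [GrpObj U'] [IsAffine U.left] [Smooth U.hom]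
  [IsAffine U'.left] [LocallyOfFiniteType U'.hom] (iU : U ⟶ G) [IsMonHom iU] (iU' : U' ⟶ G) [IsMonHom iU']
  (b : D.P.Base) (ha' : Attracts ((cocharT D (rhoH D b)).map D.i).neg iU') (hd : Dense iU' D.i iU)
  (hcomm : ∀ (X : Over (Spec (CommRingCat.of k))) (a c : X ⟶ D.T), a * c = c * a)
  (hnorm : ∀ (t : VecGrp.pt k k ⟶ D.T) (x : VecGrp.pt k k ⟶ U), ∃ y : VecGrp.pt k k ⟶ U,
      (t ≫ D.i) * (x ≫ iU) * (t ≫ D.i)⁻¹ = y ≫ iU)

include ha' hd hcomm hnorm in
/-- Homogeneous invariant vectors have nonnegative degree. -/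
theorem nonneg_of_fixed {n : ℤ} {w : V} (hw : w ∈ part (cocharT D (rhoH D b)) (comap ρ D.i) n)
    (hf : w ∈ ρ.fixedUnder iU) (h0 : w ≠ 0) : 0 ≤ n := by
  classical
  let σ := comap ρ D.i
  let lam := rhoH D b
  have main : ∀ l : List D.idx, (∀ c ∈ l, c ∈ RedSub.posRoots D.P b) → ∀ (p m : ℤ) (w : V),
      w ∈ ρ.fixedUnder iU → w ∈ part (cocharT D lam) σ p → w ∈ part (cocharT D (l.map (coH D)).sum) σ m →
      w ≠ 0 → 0 ≤ m := by
    intro l
    induction l with
    | nil =>
      intro _ p m w _ _ h2 h3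
      rw [List.map_nil, List.sum_nil] at h2
      exact (deg_zero_eq D σ h2 h3).ge
    | cons a l ih =>
      intro hl p m w hwf hp hm h3
      obtain ⟨j, hj⟩ : ∃ j, proj (cocharT D (coH D a)) σ j w ≠ 0 := by
        by_contra h
        push Not at h
        exact h3 (eq_of_proj _ σ fun j => (h j).trans (map_zero _).symm)
      let c := proj (cocharT D (coH D a)) σ j w
      have hcf : c ∈ ρ.fixedUnder iU :=
        proj_mem_of_pts (cocharT D (coH D a)) σ (fun t v hv => ptAct_mem_fixed ρ iU D.i hnorm t hv) hwf j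
      have hcp : c ∈ part (cocharT D lam) σ p := proj_mem_part hcomm _ _ σ hp j
      have hca : c ∈ part (cocharT D (coH D a)) σ j := proj_mem _ σ j w
      have hpos : 0 < lam (D.P.root a) := (rhoH_root D b a).1 (hl a List.mem_cons_self)
      have hj0 : 0 ≤ j := by
        obtain ⟨nr, hnr⟩ := D.refl a
        have e : lam.comp (D.P.reflection a).toLinearMap.toAddMonoidHom = lam + (-(lam (D.P.root a))) • coH D a := by
          refine AddMonoidHom.ext fun x => ?_
          show lam (D.P.reflection a x) = _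
          rw [D.P.reflection_apply, map_sub, map_zsmul, AddMonoidHom.add_apply, AddMonoidHom.smul_apply]
          simp only [coH, LinearMap.toAddMonoidHom_coe, smul_eq_mul]
          ring
        have h1 : c ∈ part (cocharT D (lam.comp (D.P.reflection a).toLinearMap.toAddMonoidHom)) σ
            (p + (-(lam (D.P.root a))) * j) := e ▸ part_add D σ hcp (part_zsmul D σ hca _)
        have h2 := ptAct_refl_mem_part D ρ (actsBy_of_refl hnr) h1
        have h4 := mem_filt_of_fixed ρ D.i (cocharT D lam) iU iU' ha' hd hcomm hcp hcf (toUnit _ ≫ nr)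
        by_contra hjn
        push Not at hjn
        have hlt : p < p + (-(lam (D.P.root a))) * j := by nlinarith
        have h5 := h4 _ hlt
        rw [deg, proj_of_mem _ _ h2, if_pos rfl] at h5
        refine hj ?_
        show c = 0
        have h6 := congrArg (ptAct ρ (toUnit _ ≫ nr)⁻¹) h5
        rwa [← ptAct_mul, inv_mul_cancel, ptAct_one, map_zero] at h6
      have hcm : c ∈ part (cocharT D (l.map (coH D)).sum) σ (m + (-1) * j) := by
        have := part_add D σ (proj_mem_part hcomm _ _ σ hm j) (part_zsmul D σ hca (-1))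
        rwa [List.map_cons, List.sum_cons, show coH D a + (l.map (coH D)).sum + (-1 : ℤ) • coH D a =
          (l.map (coH D)).sum by rw [neg_smul, one_smul]; abel] at this
      have := ih (fun c hc => hl c (List.mem_cons_of_mem _ hc)) p _ c hcf hcp hcm hj
      omega
  refine main (Finset.univ.filter fun c => c ∈ RedSub.posRoots D.P b).toList (fun c hc => ?_) n n w hf hw ?_ h0
  · exact (Finset.mem_filter.1 (Finset.mem_toList.1 hc)).2
  · convert hw using 3
    rw [Finset.sum_map_toList, rhoH]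

end Nonneg

section Dense

variable [IsAffine G.left] [Smooth G.hom] [ConnectedSpace G.left] {U U' : Over (Spec (CommRingCat.of k))}

/-- The product `U' T U` is dense. -/
theorem dense_of_cell (b : D.P.Base) {n m : ℕ} {en : Fin n → D.idx} {ep : Fin m → D.idx}
    (hn : RedSub.Enumerates (RedSub.negRoots D.P b) en) (hp : RedSub.Enumerates (RedSub.posRoots D.P b) ep)
    (iU : U ⟶ G) (iU' : U' ⟶ G) (ψ : RedSub.pow (Red.Ga (Spec (CommRingCat.of k))) m ≅ U)
    (hψ : ψ.hom ≫ iU = RedSub.prodMap (Red.Ga (Spec (CommRingCat.of k))) m (fun l => D.u (ep l)))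
    (ψ' : RedSub.pow (Red.Ga (Spec (CommRingCat.of k))) n ≅ U')
    (hψ' : ψ'.hom ≫ iU' = RedSub.prodMap (Red.Ga (Spec (CommRingCat.of k))) n (fun l => D.u (en l))) :
    Dense iU' D.i iU := by
  intro f hf
  haveI : IsOpenImmersion (RedSub.cellMap D en ep).left := isOpenImmersion_cellMap hn hp
  haveI : IrreducibleSpace G.left := Groth.L25.ConnIrred.irreducibleSpace G
  haveI : AlgebraicGeometry.IsReduced G.left := Groth.Agent.AV.isReduced_of_smooth_field G.hom
  haveI : IsIntegral G.left := isIntegral_of_irreducibleSpace_of_isReduced _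
  let q := (RedSub.cellMap D en ep).left
  obtain ⟨χ₀, hχ₀⟩ : ∃ χ : Multiplicative D.M →* k, χ = 1 := ⟨1, rfl⟩
  let z₀ : Sp (base k) k ⟶ cellSpace D n m :=
    lift (tup n fun _ => gp (base k) 0) (lift (tpt D (base k) χ₀) (tup m fun _ => gp (base k) 0))
  have hne : (q.opensRange : Set G.left).Nonempty := ⟨_, z₀.left (IsLocalRing.closedPoint k), rfl⟩
  obtain ⟨_, ⟨_, ⟨g, rfl⟩, rfl⟩, hgne, hgq⟩ :=
    (isBasis_basicOpen G.left).exists_nonempty_subset hne q.opensRange.isOpen
  have hg0 : g ≠ 0 := by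
    rintro rfl
    rw [Scheme.basicOpen_zero] at hgne
    obtain ⟨y, hy⟩ := hgne
    exact hy
  have hfg : f * g = 0 := by
    refine eq_of_forall_val fun x => ?_
    have hzero : val x (0 : Γ(G.left, ⊤)) = 0 := by simp [val]
    rw [hzero, val_mul]
    by_cases hx : val x g = 0
    · rw [hx, mul_zero]
    have hu : IsUnit (x.left.appTop g) := by
      have h1 : IsUnit ((Scheme.ΓSpecIso (CommRingCat.of k)).hom (x.left.appTop g)) := isUnit_iff_ne_zero.2 hx
      have h2 := h1.map (Scheme.ΓSpecIso (CommRingCat.of k)).inv.hom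
      rwa [Iso.hom_inv_id_apply] at h2
    have hr : Set.range x.left ⊆ Set.range q := by
      rintro _ ⟨y, rfl⟩
      refine hgq ?_
      show y ∈ x.left ⁻¹ᵁ G.left.basicOpen g
      rw [Scheme.preimage_basicOpen_top, Scheme.basicOpen_of_isUnit _ hu]
      trivial
    let z : VecGrp.pt k k ⟶ cellSpace D n m :=
      Over.homMk (IsOpenImmersion.lift q x.left hr) (by
        rw [← Over.w (RedSub.cellMap D en ep), ← Category.assoc, IsOpenImmersion.lift_fac, Over.w x])
    have hz : z ≫ RedSub.cellMap D en ep = x := Over.OverMorphism.ext (IsOpenImmersion.lift_fac _ _ _)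
    obtain ⟨χ, y, w, e, -⟩ := exists_coords (j := base k) (sg' k ≫ z) hn.1 hp.1
    have hx' : x = sg k ≫ (rootProd (base k) D.u (List.ofFn en) y *
        ((tpt D (base k) χ ≫ D.i) * rootProd (base k) D.u (List.ofFn ep) w)) := by
      rw [← e, Category.assoc, ← Category.assoc, sg_sg', Category.id_comp, hz]
    have hU' : sg (k := k) k ≫ rootProd (base k) D.u (List.ofFn en) y =
        (sg k ≫ tup n (fun l => gp (base k) (y (en l))) ≫ ψ'.hom) ≫ iU' := by
      simp only [Category.assoc]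
      rw [hψ', comp_prodMap, rootProd_ofFn]
      simp only [tup_proj]
    have hU : sg (k := k) k ≫ rootProd (base k) D.u (List.ofFn ep) w =
        (sg k ≫ tup m (fun l => gp (base k) (w (ep l))) ≫ ψ.hom) ≫ iU := by
      simp only [Category.assoc]
      rw [hψ, comp_prodMap, rootProd_ofFn]
      simp only [tup_proj]
    rw [hx', MonObj.comp_mul, MonObj.comp_mul, hU', hU, ← Category.assoc (sg k) (tpt D (base k) χ) D.i,
      ← _root_.mul_assoc, hf, zero_mul]
  exact (mul_eq_zero.1 hfg).resolve_right hg0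

end Dense

/-- Every positive root belongs to a Borel subgroup with positive roots. -/
theorem posRoots_subset_roots {B : Over (Spec (CommRingCat.of k))} [GrpObj B] {iB : B ⟶ G}
    (hB : Red.IsBorelOver k iB) (tB : D.T ⟶ B) (htB : tB ≫ iB = D.i) (b : D.P.Base)
    (hb : {a | ∃ v : Red.Ga (Spec (CommRingCat.of k)) ⟶ B, v ≫ iB = D.u a} ⊆ RedSub.posRoots D.P b) :
    RedSub.posRoots D.P b ⊆ {a | ∃ v : Red.Ga (Spec (CommRingCat.of k)) ⟶ B, v ≫ iB = D.u a} := by
  classical
  haveI := hB.1; haveI := hB.2.1; haveI := hB.2.2.1; haveI := hB.2.2.2.1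
  haveI : ∀ c, IsMonHom (D.u c) := fun c => (D.rootHom c).1
  haveI : Subsingleton ↥(Spec (CommRingCat.of k)) := inferInstanceAs (Subsingleton (PrimeSpectrum k))
  haveI : Nonempty ↥(Spec (CommRingCat.of k)) := inferInstanceAs (Nonempty (PrimeSpectrum k))
  obtain ⟨m, e, he⟩ := exists_enum (D := D) {a | ∃ v : Red.Ga (Spec (CommRingCat.of k)) ⟶ B, v ≫ iB = D.u a}
  obtain ⟨φ, hφ⟩ := Groth.L14.TypeR.exists_borel_iso (H := B) (h := iB) inferInstance
    (Groth.L14.TypeR.hasConnectedFibres_field B) tB htB (fun a => Iff.rfl) hb he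
  obtain ⟨l, e', he'⟩ := exists_enum (D := D)
    (RedSub.posRoots D.P b \ {a | ∃ v : Red.Ga (Spec (CommRingCat.of k)) ⟶ B, v ≫ iB = D.u a})
  have hE : RedSub.Enumerates (RedSub.posRoots D.P b) (Fin.append e e') :=
    Groth.L14.TypeR.enum_append he he' (fun a ha hb => hb.2 ha) (Set.union_sdiff_cancel hb)
  obtain ⟨-, B', _, iB', eB, hB', heB⟩ := Groth.Agent.S3952.result D b (Fin.append e e') hE
  have hBo' : Red.IsBorelOver k iB' := isBorelOver_of_isBorel hB'
  haveI := hBo'.1
  let f : B ⟶ B' := φ.inv ≫ Groth.L14.TypeR.borelIncl D m l ≫ eB.hom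
  have hf : f ≫ iB' = iB := by
    simp only [f, Category.assoc]
    rw [heB, Groth.L14.TypeR.borelIncl_borelMap, Iso.inv_comp_eq, hφ]
  haveI : IsIso f := hB.2.2.2.2.2 B' iB' f hBo'.2.1 hBo'.2.2.1 hBo'.2.2.2.1 hBo'.2.2.2.2.1 hf
  intro a ha
  rw [← hE.2] at ha
  obtain ⟨i, rfl⟩ := ha
  refine ⟨lift (1 : Red.Ga (Spec (CommRingCat.of k)) ⟶ D.T)
    (tup (m + l) fun i' => if i' = i then 𝟙 _ else 1) ≫ eB.hom ≫ inv f, ?_⟩
  simp only [Category.assoc]
  rw [show inv f ≫ iB = iB' by rw [IsIso.inv_comp_eq, hf], heB]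
  show lift _ _ ≫ ((fst _ _ ≫ D.i) * (snd _ _ ≫ RedSub.prodMap _ (m + l) _)) = _
  rw [MonObj.comp_mul, lift_fst_assoc, lift_snd_assoc, MonObj.one_comp, _root_.one_mul, comp_prodMap]
  simp only [tup_proj]
  rw [prod_ofFn_single _ i fun l' hl' => by rw [if_neg hl', MonObj.one_comp], if_pos rfl, Category.id_comp]

/-- A normal subgroup of a group containing the torus is normalized by it. -/
theorem exists_conj_mem {B U : Over (Spec (CommRingCat.of k))} [GrpObj B] [GrpObj U] {iB : B ⟶ G} [IsMonHom iB]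
    {u : U ⟶ B} (hu : AlgGrp.IsNormalHom u) (tB : D.T ⟶ B) (htB : tB ≫ iB = D.i)
    (t : VecGrp.pt k k ⟶ D.T) (x : VecGrp.pt k k ⟶ U) :
    ∃ y : VecGrp.pt k k ⟶ U, (t ≫ D.i) * (x ≫ u ≫ iB) * (t ≫ D.i)⁻¹ = y ≫ u ≫ iB := by
  obtain ⟨y, hy⟩ := hu _ (t ≫ tB) x
  refine ⟨y, ?_⟩
  have h := congrArg (· ≫ iB) hy
  simp only [MonObj.mul_comp, GrpObj.inv_comp, Category.assoc, htB] at h
  exact h

end Groth.L16.Weights
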