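import Groth.Agent.L16.Weights.RootCochar
import Groth.Agent.L16.Weights.BorelTransfer
import Groth.Agent.L08.Borel.MaxTori
import Groth.Agent.L08.Borel.Quot
import Groth.Agent.L08.Borel.TorusImage
import Groth.Agent.L08.SmallNorm.AlbKer
import Groth.Agent.L14.TypeR.BorelUnip
import Groth.Agent.L14.Chev.Cell.NegBase
import Groth.Agent.L14.Chev.Cell.Regular
import Groth.Agent.L14.Luna.UnipRad
import Groth.Agent.S8091
import Groth.Agent.S3952
import Groth.Agent.S2959

/-!
# Regular one-parameter subgroups of a reductive group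
-/

set_option autoImplicit false
set_option backward.isDefEq.respectTransparency.types false
set_option linter.unusedSectionVars false
set_option linter.style.haveILetI false
set_option maxHeartbeats 1000000

universe u

open CategoryTheory MonoidalCategory CartesianMonoidalCategory MonObj AlgebraicGeometry
open Groth.L14.RankOne Groth.L14.Chart Groth.L14.Chev.Cell
open scoped TensorProduct LaurentPolynomial

noncomputable section

namespace Groth.L16.Weights

variable {k : Type u} [Field k]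

local notation "U1" => 𝟙_ (Over (Spec (CommRingCat.of k)))

section Push

variable {G G' H : Over (Spec (CommRingCat.of k))} [GrpObj G] [GrpObj G'] [GrpObj H]

/-- The image of a one-parameter subgroup. -/
def Cochar.map (L : Cochar G) (j : G ⟶ G') [IsMonHom j] : Cochar G' where
  pt := L.pt ≫ j
  one := by rw [← Category.assoc, L.one, MonObj.one_comp]
  mul := by rw [← Category.assoc, L.mul, MonObj.mul_comp, Category.assoc, Category.assoc]

theorem Cochar.neg_map (L : Cochar G) (j : G ⟶ G') [IsMonHom j] : (L.map j).neg.pt = (L.neg.map j).pt :=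
  (Category.assoc _ _ _).symm

theorem Attracts.map {L : Cochar G} {i : H ⟶ G} (h : Attracts L i) (j : G ⟶ G') [IsMonHom j] :
    Attracts (L.map j) (i ≫ j) := by
  intro C _ _ γ
  obtain ⟨δ, h1, h2⟩ := h C γ
  refine ⟨δ, ?_, h2⟩
  show _ = (VecGrp.ptMap (scal C) ≫ L.pt ≫ j) * _ * (VecGrp.ptMap (scal C) ≫ L.pt ≫ j)⁻¹
  simp only [← Category.assoc, ← GrpObj.inv_comp, ← MonObj.mul_comp]
  simp only [Category.assoc]
  rw [reassoc_of% h1]

theorem Attracts.congr {L L' : Cochar G} {i : H ⟶ G} (h : Attracts L i) (e : L'.pt = L.pt) : Attracts L' i := by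
  intro C _ _ γ
  rw [e]
  exact h C γ

end Push

theorem cochar_neg {G : Over (Spec (CommRingCat.of k))} [GrpObj G] (D : Red.SplitRed G) (lam : D.M →+ ℤ) :
    (cochar D lam).neg.pt = (cochar D (-lam)).pt := by
  show VecGrp.ptMap _ ≫ sg _ ≫ tpt D (base k) (chiLam k lam) ≫ D.i = sg _ ≫ tpt D (base k) (chiLam k (-lam)) ≫ D.i
  rw [reassoc_of% (ptMap_sg (LaurentPolynomial.invert (R := k)).toAlgHom),
    reassoc_of% (mor_tpt (base k) (LaurentPolynomial.invert (R := k)).toAlgHom (chiLam k lam))]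
  exact congrArg (fun χ => sg _ ≫ tpt D (base k) χ ≫ D.i) (MonoidHom.ext fun a => LaurentPolynomial.invert_T _)

theorem prod_ofFn_single {M : Type*} [Monoid M] : ∀ {m : ℕ} (f : Fin m → M) (l : Fin m),
    (∀ l', l' ≠ l → f l' = 1) → (List.ofFn f).prod = f l
  | 0, _, l, _ => l.elim0
  | m + 1, f, l, h => by
    rw [List.ofFn_succ, List.prod_cons]
    induction l using Fin.cases with
    | zero =>
      rw [List.prod_eq_one (l := List.ofFn fun a : Fin m => f a.succ), _root_.mul_one]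
      intro x hx
      obtain ⟨a, rfl⟩ := List.mem_ofFn.1 hx
      exact h _ (Fin.succ_ne_zero a)
    | succ a =>
      rw [prod_ofFn_single (fun a : Fin m => f a.succ) a fun b hb => h _ fun e => hb (Fin.succ_inj.1 e),
        h 0 (Fin.succ_ne_zero a).symm, _root_.one_mul]

variable [IsAlgClosed k]

/-- The roots of a Borel subgroup containing the positive root groups are positive. -/
theorem roots_subset_posRoots {G B : Over (Spec (CommRingCat.of k))} [GrpObj G] [GrpObj B] (D : Red.SplitRed G)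
    {iB : B ⟶ G} (hB : Red.IsBorel iB) (tB : D.T ⟶ B) (htB : tB ≫ iB = D.i) (b : D.P.Base)
    (hb : RedSub.posRoots D.P b ⊆ {a | ∃ v : Red.Ga (Spec (CommRingCat.of k)) ⟶ B, v ≫ iB = D.u a}) :
    {a | ∃ v : Red.Ga (Spec (CommRingCat.of k)) ⟶ B, v ≫ iB = D.u a} ⊆ RedSub.posRoots D.P b := by
  obtain ⟨b', hb'⟩ := Groth.L14.TypeR.exists_base_borel D hB tB htB
  intro a ha
  obtain ⟨lam, hl⟩ := hasLam (D := D) b'
  refine (pos_or_neg D.P b a).resolve_right fun hn => ?_
  have hneg : D.P.reflectionPerm a a ∈ RedSub.posRoots D.P b := by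
    show D.P.root (D.P.reflectionPerm a a) ∈ AddSubmonoid.closure _
    rw [root_neg']
    exact hn
  have h1 := (hl a).1 (hb' ha)
  have h2 := (hl _).1 (hb' (hb hneg))
  rw [root_neg', map_neg] at h2
  omega

/-- A point killed by all the root coordinates. -/
theorem exists_one_pow {G T : Over (Spec (CommRingCat.of k))} [GrpObj G] {m : ℕ}
    (f : Fin m → (Red.Ga (Spec (CommRingCat.of k)) ⟶ G)) (hf : ∀ l, IsMonHom (f l)) :
    ∃ p : T ⟶ RedSub.pow (Red.Ga (Spec (CommRingCat.of k))) m, p ≫ RedSub.prodMap _ m f = 1 := by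
  refine ⟨tup m fun _ => 1, ?_⟩
  rw [comp_prodMap]
  refine List.prod_eq_one fun g hg => ?_
  obtain ⟨l, rfl⟩ := List.mem_ofFn.1 hg
  haveI := hf l
  rw [tup_proj, MonObj.one_comp]

/-- The Borel subgroup of a positive system. -/
theorem exists_borel_base {G : Over (Spec (CommRingCat.of k))} [GrpObj G] (D : Red.SplitRed G) (b : D.P.Base) :
    ∃ (B' : Over (Spec (CommRingCat.of k))) (_ : GrpObj B') (iB' : B' ⟶ G) (tB' : D.T ⟶ B'),
      Red.IsBorel iB' ∧ tB' ≫ iB' = D.i ∧
      {a | ∃ v : Red.Ga (Spec (CommRingCat.of k)) ⟶ B', v ≫ iB' = D.u a} ⊆ RedSub.posRoots D.P b := by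
  obtain ⟨m₁, e₁, he₁⟩ := exists_enum (D := D) (RedSub.posRoots D.P b)
  obtain ⟨-, B', _, iB', eB, hB', heB⟩ := Groth.Agent.S3952.result D b e₁ he₁
  haveI : ∀ c, IsMonHom (D.u c) := fun c => (D.rootHom c).1
  haveI := isMonHom_i (D := D)
  obtain ⟨p₁, hp₁⟩ := exists_one_pow (T := D.T) (fun l => D.u (e₁ l)) fun l => inferInstance
  let tB' : D.T ⟶ B' := lift (𝟙 D.T) p₁ ≫ eB.hom
  have htB' : tB' ≫ iB' = D.i := by
    show (lift (𝟙 D.T) p₁ ≫ eB.hom) ≫ iB' = _
    rw [Category.assoc, heB]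
    show lift (𝟙 D.T) p₁ ≫ ((fst _ _ ≫ D.i) * (snd _ _ ≫ RedSub.prodMap _ m₁ _)) = _
    rw [MonObj.comp_mul, lift_fst_assoc, lift_snd_assoc, hp₁, Category.id_comp, _root_.mul_one]
  have hpos : RedSub.posRoots D.P b ⊆
      {a | ∃ v : Red.Ga (Spec (CommRingCat.of k)) ⟶ B', v ≫ iB' = D.u a} := by
    intro a ha
    rw [← he₁.2] at ha
    obtain ⟨l, rfl⟩ := ha
    classical
    refine ⟨lift (1 : Red.Ga (Spec (CommRingCat.of k)) ⟶ D.T)
      (tup m₁ fun l' => if l' = l then 𝟙 _ else 1) ≫ eB.hom, ?_⟩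
    rw [Category.assoc, heB]
    show lift _ _ ≫ ((fst _ _ ≫ D.i) * (snd _ _ ≫ RedSub.prodMap _ m₁ _)) = _
    rw [MonObj.comp_mul, lift_fst_assoc, lift_snd_assoc, MonObj.one_comp, _root_.one_mul, comp_prodMap]
    simp only [tup_proj]
    rw [prod_ofFn_single _ l fun l' hl' => by rw [if_neg hl', MonObj.one_comp], if_pos rfl, Category.id_comp]
  exact ⟨B', inferInstance, iB', tB', hB', htB', roots_subset_posRoots D hB' tB' htB' _ hpos⟩

/-- The regular one-parameter subgroup of a Borel subgroup of a connected reductive group, with an opposite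
unipotent subgroup containing a conjugate of the radical. -/
theorem exists_regular_split {G B U : Over (Spec (CommRingCat.of k))} [GrpObj G] [GrpObj B] [GrpObj U]
    (D : Red.SplitRed G) [IsAffine G.left] [Smooth G.hom] [ConnectedSpace G.left] {iB : B ⟶ G}
    (hB : Red.IsBorelOver k iB) {u : U ⟶ B} (hU : Par.IsUnipotentRadical u) (iT : D.T ⟶ B) (hiT : iT ≫ iB = D.i) :
    ∃ (L : Cochar G) (U' : Over (Spec (CommRingCat.of k))) (_ : GrpObj U') (i' : U' ⟶ G) (g : U1 ⟶ G),
      IsMonHom i' ∧ IsAffine U'.left ∧ LocallyOfFiniteType U'.hom ∧ Attracts L (u ≫ iB) ∧ Attracts L.neg i' ∧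
      ∃ f : U ⟶ U', f ≫ i' = AGF.conjBy g (u ≫ iB) := by
  haveI := hB.1; haveI := hB.2.1; haveI := hB.2.2.1; haveI := hB.2.2.2.1
  haveI := hU.1; haveI := hU.2.1
  haveI : IsAffine B.left := isAffine_of_isAffineHom iB.left
  haveI : Mono iB := Groth.L08.mono_of_closedImmersion iB
  haveI : Mono u := Over.mono_of_mono_left u
  -- the positive system of the Borel subgroup
  have hBor : Red.IsBorel iB := isBorel_of_isBorelOver hB
  obtain ⟨b, hb⟩ := Groth.L14.TypeR.exists_base_borel D hBor iT hiT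
  obtain ⟨lam, hl⟩ := hasLam (D := D) b
  obtain ⟨m, e, he⟩ := exists_enum (D := D) {a | ∃ v : Red.Ga (Spec (CommRingCat.of k)) ⟶ B, v ≫ iB = D.u a}
  obtain ⟨ψ, hψ⟩ := Groth.L14.TypeR.exists_unip_param D hBor iT hiT hU e he
  have hL : Attracts (cochar D lam) (u ≫ iB) :=
    attracts_cochar D (u ≫ iB) e he.1 ψ hψ lam fun l => (hl _).1 (hb (he.2 ▸ Set.mem_range_self l))
  -- the opposite Borel subgroup
  obtain ⟨B', _, iB', tB', hB', htB', hneg⟩ := exists_borel_base D (negBase D.P b)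
  haveI := hB'.1; haveI := hB'.2.1; haveI := hB'.2.2.1
  have hB'o : Red.IsBorelOver k iB' := isBorelOver_of_isBorel hB'
  haveI := hB'o.2.2.2.1
  haveI : IsAffine B'.left := isAffine_of_isAffineHom iB'.left
  obtain ⟨U', _, u', hU'⟩ := Groth.L14.Luna.exists_unipotentRadical_solvable B' hB'o.2.2.2.2.1
  haveI := hU'.1; haveI := hU'.2.1; haveI := hU'.2.2.2.1
  haveI : Mono iB' := Groth.L08.mono_of_closedImmersion iB'
  haveI : Mono u' := Over.mono_of_mono_left u'
  obtain ⟨m', e', he'⟩ := exists_enum (D := D) {a | ∃ v : Red.Ga (Spec (CommRingCat.of k)) ⟶ B', v ≫ iB' = D.u a}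
  obtain ⟨ψ', hψ'⟩ := Groth.L14.TypeR.exists_unip_param D hB' tB' htB' hU' e' he'
  have hL' : Attracts (cochar D lam).neg (u' ≫ iB') := by
    refine Attracts.congr (attracts_cochar D (u' ≫ iB') e' he'.1 ψ' hψ' (-lam) fun l => ?_) (cochar_neg D lam)
    have h := hneg (he'.2 ▸ Set.mem_range_self l)
    rw [posRoots_negBase] at h
    have := (hl _).2 h
    show 0 < -(lam _)
    omega
  -- conjugacy
  obtain ⟨g, φ, hφ⟩ := Groth.L08.Borel.exists_borel_conj hB hB'o
  haveI : IsMonHom (AGF.conjBy g iB) := Groth.L08.Borel.isMonHom_conjBy g iB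
  haveI : IsMonHom φ.hom := Groth.L08.Borel.isMonHom_of_comp_mono φ.hom iB' _ hφ
  haveI : IsIso φ.hom.left := inferInstanceAs (IsIso ((Over.forget _).map φ.hom))
  obtain ⟨-, -, hUn, hUs, hUc, hUt⟩ := Groth.L14.Luna.unipotentRadical_data hU
  haveI := hUs
  haveI : QuasiCompact U.hom := hU.2.2.2.2.1
  haveI : IsClosedImmersion (u ≫ φ.hom).left := inferInstanceAs (IsClosedImmersion (u.left ≫ φ.hom.left))
  obtain ⟨f, hf⟩ := Groth.L14.Luna.exists_factor_unipotentRadical hU' (u ≫ φ.hom)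
    (Groth.L08.SmallNorm.isNormalHom_comp_iso u φ.hom hUn) hUc hUt
  refine ⟨cochar D lam, U', inferInstance, u' ≫ iB', g, inferInstance, isAffine_of_isAffineHom u'.left, inferInstance,
    hL, hL', f, ?_⟩
  rw [reassoc_of% hf, hφ, Groth.L08.Borel.comp_conjBy]

/-- The regular one-parameter subgroup of a Borel subgroup of a connected reductive group. -/
theorem exists_regular_connected {G B U : Over (Spec (CommRingCat.of k))} [GrpObj G] [GrpObj B] [GrpObj U]
    (hG : Red.IsReductive G) [IsAffine G.left] [Smooth G.hom] [ConnectedSpace G.left] {iB : B ⟶ G}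
    (hB : Red.IsBorelOver k iB) {u : U ⟶ B} (hU : Par.IsUnipotentRadical u) :
    ∃ (L : Cochar G) (U' : Over (Spec (CommRingCat.of k))) (_ : GrpObj U') (i' : U' ⟶ G) (g : U1 ⟶ G),
      IsMonHom i' ∧ IsAffine U'.left ∧ LocallyOfFiniteType U'.hom ∧ Attracts L (u ≫ iB) ∧ Attracts L.neg i' ∧
      ∃ f : U ⟶ U', f ≫ i' = AGF.conjBy g (u ≫ iB) := by
  haveI := hB.1; haveI := hB.2.1
  haveI : Mono iB := Groth.L08.mono_of_closedImmersion iB
  -- a split maximal torus inside the Borel subgroup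
  obtain ⟨T, gT, iT, p, hiT, hiTm, hT, -, -, -, -, habs⟩ := Groth.L08.Borel.exists_absorbing_of_borel hB
  haveI := hiT; haveI := hiTm
  have hTmax : Red.IsMaximalTorus (iT ≫ iB) := Groth.L08.Borel.isMaximalTorus_of_isMaxTorus
    (Groth.L08.Borel.isMaxTorus_of_absorbing (iT ≫ iB) hT habs)
  obtain ⟨n, ⟨eT⟩⟩ := Groth.L08.Borel.exists_laurent_of_torus hT
  obtain ⟨R⟩ := Groth.L14.Splitting.exists_rootData_local hG (iT ≫ iB) hTmax
    (eT ≪≫ (Groth.L25.Bridge.dsIso k (Fin n → ℤ)).symm)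
  exact exists_regular_split (R.splitRed (fun _ => trivial) hG hTmax) hB hU iT rfl

/-- The regular one-parameter subgroup of a Borel subgroup of a group with reductive identity component. -/
theorem exists_regular {G B U : Over (Spec (CommRingCat.of k))} [GrpObj G] [GrpObj B] [GrpObj U]
    (hG : VecGrp.IsReductiveGrp k G) {iB : B ⟶ G}
    (hB : Red.IsBorelOver k iB) {u : U ⟶ B} (hU : Par.IsUnipotentRadical u) :
    ∃ (L : Cochar G) (U' : Over (Spec (CommRingCat.of k))) (_ : GrpObj U') (i' : U' ⟶ G) (g : U1 ⟶ G),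
      IsMonHom i' ∧ IsAffine U'.left ∧ LocallyOfFiniteType U'.hom ∧ Attracts L (u ≫ iB) ∧ Attracts L.neg i' ∧
      ∃ f : U ⟶ U', f ≫ i' = AGF.conjBy g (u ≫ iB) := by
  obtain ⟨hGa, hGs, G₀, _, j, hj, hjo, hGaff, hGsm, hGc, hGr⟩ := hG
  haveI := hGa; haveI := hGs; haveI := hj; haveI := hjo; haveI := hGaff; haveI := hGsm; haveI := hGc
  haveI := hB.1; haveI := hB.2.1; haveI := hB.2.2.2.1
  have hjd : Groth.L08.Chev.IdCompData j := Groth.L08.SmallNorm.idCompData_of_open j
  haveI := hjd.closedImm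
  haveI : Mono j := Groth.L08.mono_of_closedImmersion j
  obtain ⟨b₀, hb₀⟩ := hjd.exists_lift_hom iB
  haveI : IsMonHom b₀ := Groth.L08.Borel.isMonHom_of_comp_mono b₀ j iB hb₀
  have hcl : IsClosedImmersion b₀.left := by
    haveI : IsClosedImmersion (b₀.left ≫ j.left) := by rw [← Over.comp_left, hb₀]; infer_instance
    exact IsClosedImmersion.of_comp b₀.left j.left
  have hB₀ : Red.IsBorelOver k b₀ := ⟨inferInstance, hcl, hB.2.2.1, hB.2.2.2.1, hB.2.2.2.2.1,
    fun B' _ i' _ f hc hs hcon hsol hf => hB.2.2.2.2.2 B' (i' ≫ j) f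
      (by haveI := hc; exact inferInstanceAs (IsClosedImmersion (i'.left ≫ j.left))) hs hcon hsol
      (by rw [reassoc_of% hf, hb₀])⟩
  obtain ⟨L, U', _, i', g, hi', hUa, hUf, ha, ha', f, hf⟩ :=
    exists_regular_connected (isReductive_of_isReductiveOver hGr) hB₀ hU
  haveI := hi'
  refine ⟨L.map j, U', inferInstance, i' ≫ j, g ≫ j, inferInstance, hUa, hUf, ?_,
    (ha'.map j).congr (L.neg_map j), f, ?_⟩
  · rw [← hb₀, ← Category.assoc]
    exact ha.map j
  · rw [reassoc_of% hf, ← hb₀]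
    simp only [AGF.conjBy, MonObj.mul_comp, GrpObj.inv_comp, Category.assoc]

end Groth.L16.Weights
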