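import Groth.Agent.L16.Weights.Grade
import Mathlib.RingTheory.Finiteness.NilpotentKer
import Mathlib.RingTheory.Ideal.Quotient.Operations
import Mathlib.RingTheory.FiniteType
import Mathlib.LinearAlgebra.FiniteDimensional.Basic

/-!
# Rational modules and subgroups attracted by a one-parameter subgroup
-/

set_option autoImplicit false
set_option backward.isDefEq.respectTransparency.types false
set_option linter.unusedSectionVars false
set_option linter.style.haveILetI false
set_option maxHeartbeats 1000000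

universe u v

open CategoryTheory MonoidalCategory CartesianMonoidalCategory MonObj AlgebraicGeometry
open scoped TensorProduct LaurentPolynomial
open Groth.L25.Observable

noncomputable section

namespace Groth.L16.Weights

variable {k : Type u} [Field k] {G H : Over (Spec (CommRingCat.of k))} [GrpObj G] [GrpObj H]

/-- Scalars of Laurent polynomials. -/
def scal (C : Type u) [CommRing C] [Algebra k C] : k[T;T⁻¹] →ₐ[k] C[T;T⁻¹] :=
  AddMonoidAlgebra.mapAlgHom ℤ (Algebra.ofId k C)

theorem scal_T (C : Type u) [CommRing C] [Algebra k C] (n : ℤ) :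
    scal (k := k) C (LaurentPolynomial.T n) = LaurentPolynomial.T n := by
  show AddMonoidAlgebra.mapAlgHom ℤ (Algebra.ofId k C) (AddMonoidAlgebra.single n 1) = _
  rw [AddMonoidAlgebra.mapAlgHom_single, map_one]
  rfl

/-- Constant Laurent polynomials. -/
abbrev const (C : Type u) [CommRing C] [Algebra k C] : C →ₐ[k] C[T;T⁻¹] := IsScalarTower.toAlgHom k C _

/-- Polynomials inside Laurent polynomials. -/
abbrev inLaur (C : Type u) [CommRing C] [Algebra k C] : Polynomial C →ₐ[k] C[T;T⁻¹] :=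
  (Polynomial.toLaurentAlg (R := C)).restrictScalars k

/-- Evaluation of a polynomial at zero. -/
abbrev atZero (C : Type u) [CommRing C] [Algebra k C] : Polynomial C →ₐ[k] C :=
  (Polynomial.aeval (R := C) (0 : C)).restrictScalars k

/-- The subgroup `i : H ⟶ G` is contracted to the identity by the one-parameter subgroup. -/
def Attracts (L : Cochar G) (i : H ⟶ G) : Prop :=
  ∀ (C : Type u) [CommRing C] [Algebra k C] (γ : VecGrp.pt k C ⟶ H), ∃ δ : VecGrp.pt k (Polynomial C) ⟶ H,
    VecGrp.ptMap (inLaur C) ≫ δ ≫ i = (VecGrp.ptMap (scal C) ≫ L.pt) * (VecGrp.ptMap (const C) ≫ γ ≫ i) *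
      (VecGrp.ptMap (scal C) ≫ L.pt)⁻¹ ∧
    VecGrp.ptMap (atZero C) ≫ δ = 1

variable (L : Cochar G) {V : Type u} [AddCommGroup V] [Module k V] (ρ : VecGrp.GMod G V)

theorem proj_baseChange_natural (m : ℤ) {B B' : Type u} [CommRing B] [Algebra k B] [CommRing B'] [Algebra k B']
    (f : B →ₐ[k] B') (z : B ⊗[k] V) :
    VecGrp.Wmap f ((proj L ρ m).baseChange B z) = (proj L ρ m).baseChange B' (VecGrp.Wmap f z) :=
  VecGrp.baseChange_natural _ f z

/-- A finite set carrying all components of an element of `B ⊗ V`. -/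
theorem exists_support_tensor {B : Type u} [CommRing B] [Algebra k B] (z : B ⊗[k] V) :
    ∃ S : Finset ℤ, (∀ m ∉ S, (proj L ρ m).baseChange B z = 0) ∧
      ∑ m ∈ S, (proj L ρ m).baseChange B z = z := by
  classical
  suffices h : ∃ S : Finset ℤ, ∀ S', S ⊆ S' → (∀ m ∉ S', (proj L ρ m).baseChange B z = 0) ∧
      ∑ m ∈ S', (proj L ρ m).baseChange B z = z by
    obtain ⟨S, hS⟩ := h
    exact ⟨S, hS S le_rfl⟩
  induction z using TensorProduct.induction_on with
  | zero => exact ⟨∅, fun S' _ => by simp⟩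
  | add p q hp hq =>
    obtain ⟨S, hS⟩ := hp
    obtain ⟨S₂, hS₂⟩ := hq
    refine ⟨S ∪ S₂, fun S' hS' => ⟨fun m hm => ?_, ?_⟩⟩
    · rw [map_add, (hS S' (Finset.union_subset_left hS')).1 m hm, (hS₂ S' (Finset.union_subset_right hS')).1 m hm,
        add_zero]
    · simp only [map_add, Finset.sum_add_distrib, (hS S' (Finset.union_subset_left hS')).2,
        (hS₂ S' (Finset.union_subset_right hS')).2]
  | tmul b v =>
    obtain ⟨S, hS, -⟩ := exists_support L ρ v
    refine ⟨S, fun S' hS' => ⟨fun m hm => ?_, ?_⟩⟩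
    · rw [LinearMap.baseChange_tmul, hS m fun h => hm (hS' h), TensorProduct.tmul_zero]
    · simp only [LinearMap.baseChange_tmul, ← TensorProduct.tmul_sum]
      rw [sum_proj L ρ fun m hm => hS m fun h => hm (hS' h)]

/-- The point acts on the part of degree `m` by `T ^ m`. -/
theorem act_part {C : Type u} [CommRing C] [Algebra k C] {m : ℤ} {v : V} (hv : v ∈ part L ρ m) :
    ρ.ρ C[T;T⁻¹] (VecGrp.ptMap (scal C) ≫ L.pt) ((1 : C[T;T⁻¹]) ⊗ₜ[k] v) = LaurentPolynomial.T m ⊗ₜ[k] v := by
  have h := congrArg (VecGrp.Wmap (scal C)) ((mem_part L ρ).1 hv)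
  rwa [ρ.naturality, VecGrp.Wmap_tmul, VecGrp.Wmap_tmul, map_one, scal_T] at h

theorem act_baseChange {C : Type u} [CommRing C] [Algebra k C] (m : ℤ) (z : C[T;T⁻¹] ⊗[k] V) :
    ρ.ρ C[T;T⁻¹] (VecGrp.ptMap (scal C) ≫ L.pt) ((proj L ρ m).baseChange C[T;T⁻¹] z) =
      (LaurentPolynomial.T m : C[T;T⁻¹]) • (proj L ρ m).baseChange C[T;T⁻¹] z := by
  induction z using TensorProduct.induction_on with
  | zero => simp
  | add p q hp hq => simp only [map_add, smul_add, hp, hq]
  | tmul f v =>
    rw [LinearMap.baseChange_tmul]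
    conv_lhs => rw [show (f ⊗ₜ[k] proj L ρ m v : C[T;T⁻¹] ⊗[k] V) = f • ((1 : C[T;T⁻¹]) ⊗ₜ[k] proj L ρ m v) by
      rw [TensorProduct.smul_tmul', smul_eq_mul, _root_.mul_one], map_smul, act_part L ρ (proj_mem L ρ m v)]
    rw [TensorProduct.smul_tmul', TensorProduct.smul_tmul', smul_eq_mul, smul_eq_mul, mul_comm]

/-- The action of the inverse point. -/
theorem act_inv {C : Type u} [CommRing C] [Algebra k C] {m : ℤ} {v : V} (hv : v ∈ part L ρ m) :
    ρ.ρ C[T;T⁻¹] (VecGrp.ptMap (scal C) ≫ L.pt)⁻¹ ((1 : C[T;T⁻¹]) ⊗ₜ[k] v) =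
      LaurentPolynomial.T (-m) ⊗ₜ[k] v := by
  refine (ρ.ρ C[T;T⁻¹] (VecGrp.ptMap (scal C) ≫ L.pt)).injective ?_
  rw [← LinearEquiv.mul_apply, ← map_mul, mul_inv_cancel, map_one]
  conv_rhs => rw [← _root_.mul_one (LaurentPolynomial.T (-m) : C[T;T⁻¹]), ← smul_eq_mul, ← TensorProduct.smul_tmul',
    map_smul, act_part L ρ hv, TensorProduct.smul_tmul', smul_eq_mul, ← LaurentPolynomial.T_add, neg_add_cancel,
    LaurentPolynomial.T_zero]
  rfl

variable [IsAlgClosed k]

theorem mem_fixedUnder_of_gen (i : H ⟶ G) [IsAffine H.left] {v : V}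
    (h : ∀ (_ : Algebra k Γ(H.left, ⊤)) (γ : VecGrp.pt k Γ(H.left, ⊤) ⟶ H),
      ρ.ρ _ (γ ≫ i) ((1 : Γ(H.left, ⊤)) ⊗ₜ[k] v) = (1 : Γ(H.left, ⊤)) ⊗ₜ[k] v) : v ∈ ρ.fixedUnder i := by
  obtain ⟨alg, gen, -, -, hfac⟩ := exists_gen H
  letI := alg
  intro B _ _ g
  obtain ⟨φ, hφ, -⟩ := hfac B g
  rw [← hφ, Category.assoc, ← map_one φ, ← VecGrp.Wmap_tmul φ, ← ρ.naturality, h alg gen]

/-- The finite-dimensional weight pieces of the functions on a contracted subgroup, and the components of the
translates of a homogeneous vector. -/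
theorem exists_triangular [IsAffine H.left] [LocallyOfFiniteType H.hom] (i : H ⟶ G) [IsMonHom i]
    (ha : Attracts L i) :
    ∃ (_ : Algebra k Γ(H.left, ⊤)) (γ : VecGrp.pt k Γ(H.left, ⊤) ⟶ H) (piece : ℤ → Submodule k Γ(H.left, ⊤)),
      (∀ (B : Type u) [CommRing B] [Algebra k B] (g : VecGrp.pt k B ⟶ H),
        ∃ φ : Γ(H.left, ⊤) →ₐ[k] B, VecGrp.ptMap φ ≫ γ = g) ∧
      (∀ d, 0 < d → Module.Finite k (piece d)) ∧
      ∀ {n : ℤ} {v : V}, v ∈ part L ρ n → ∀ m,
        (m < n → (proj L ρ m).baseChange _ (ρ.ρ _ (γ ≫ i) ((1 : Γ(H.left, ⊤)) ⊗ₜ[k] v)) = 0) ∧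
        (m = n → (proj L ρ m).baseChange _ (ρ.ρ _ (γ ≫ i) ((1 : Γ(H.left, ⊤)) ⊗ₜ[k] v)) = 1 ⊗ₜ[k] v) ∧
        (proj L ρ m).baseChange _ (ρ.ρ _ (γ ≫ i) ((1 : Γ(H.left, ⊤)) ⊗ₜ[k] v)) ∈
          LinearMap.range ((piece (m - n)).subtype.rTensor V) := by
  classical
  obtain ⟨alg, gen, hgeniso, -, hfac⟩ := exists_gen H
  letI := alg
  let C : Type u := Γ(H.left, ⊤)
  obtain ⟨δ, hδ, hδ0⟩ := ha C gen
  obtain ⟨φ, hφ, hφv⟩ := hfac (Polynomial C) δ
  obtain ⟨e₀, he₀, he₀v⟩ := hfac k (1 : VecGrp.pt k k ⟶ H)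
  let θ : C →ₐ[k] C[T;T⁻¹] := (inLaur C).comp φ
  have hφ0 : ∀ f, atZero C (φ f) = algebraMap k C (e₀ f) := fun f => by
    rw [hφv, ← val_ptMap, hδ0, he₀v, ← Algebra.ofId_apply, ← val_ptMap, MonObj.comp_one]
  let piece : ℤ → Submodule k C := fun d =>
    LinearMap.ker (θ.toLinearMap - (LinearMap.mulRight k (LaurentPolynomial.T d : C[T;T⁻¹])).comp (const C).toLinearMap)
  have hpiece : ∀ (d : ℤ) (c : C), c ∈ piece d ↔ θ c = const (k := k) C c * LaurentPolynomial.T d := fun d c => by
    simp [piece, sub_eq_zero]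
  have hcoe : ∀ (c : C) (d : ℤ) (n : ℤ),
      ((const (k := k) C c * LaurentPolynomial.T d : C[T;T⁻¹])).coeff n = if d = n then c else 0 := by
    intro c d n
    show ((LaurentPolynomial.C c * LaurentPolynomial.T d : C[T;T⁻¹])).coeff n = _
    rw [← LaurentPolynomial.single_eq_C_mul_T]
    exact Finsupp.single_apply
  have hneg : ∀ (p : Polynomial C) (n : ℤ), n < 0 → (inLaur (k := k) C p).coeff n = 0 := fun p n hn => by
    show (Polynomial.toLaurent p).coeff n = 0
    rw [Polynomial.toLaurent_apply]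
    by_contra h
    obtain ⟨j, hj⟩ : n ∈ Set.range ((↑) : ℕ → ℤ) := by
      by_contra hr
      exact h (Finsupp.mapDomain_of_notMem_range _ _ hr)
    omega
  refine ⟨alg, gen, piece, fun B _ _ g => ?_, fun d hd => ?_, fun {n v} hv => ?_⟩
  · obtain ⟨ψ, hψ, -⟩ := hfac B g; exact ⟨ψ, hψ⟩
  · -- a homogeneous function of degree `d` is detected modulo the power `d + 1` of the maximal ideal
    let 𝔪 : Ideal C := RingHom.ker e₀
    let N : ℕ := d.toNat + 1
    have hX : ∀ f ∈ 𝔪, Polynomial.X ∣ φ f := fun f hf => by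
      rw [Polynomial.X_dvd_iff, Polynomial.coeff_zero_eq_eval_zero]
      show atZero (k := k) C (φ f) = 0
      rw [hφ0, (RingHom.mem_ker).1 hf, map_zero]
    have hpow : ∀ f ∈ 𝔪 ^ N, Polynomial.X ^ N ∣ φ f := by
      intro f hf
      have h1 : (𝔪 ^ N).map φ ≤ Ideal.span {(Polynomial.X : Polynomial C) ^ N} := by
        rw [Ideal.map_pow, ← Ideal.span_singleton_pow]
        refine Ideal.pow_right_mono ?_ _
        rw [Ideal.map_le_iff_le_comap]
        exact fun g hg => Ideal.mem_span_singleton.2 (hX g hg)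
      exact Ideal.mem_span_singleton.1 (h1 (Ideal.mem_map_of_mem φ hf))
    have hinj : ∀ c ∈ piece d, c ∈ 𝔪 ^ N → c = 0 := by
      intro c hc hcm
      obtain ⟨q, hq⟩ := hpow c hcm
      have h1 := congrArg (fun z : C[T;T⁻¹] => z.coeff d) ((hpiece d c).1 hc)
      simp only [hcoe, if_pos] at h1
      rw [← h1]
      show (Polynomial.toLaurent (φ c)).coeff d = 0
      rw [hq, map_mul, Polynomial.toLaurent_X_pow, mul_comm]
      show (Polynomial.toLaurent q * AddMonoidAlgebra.single (N : ℤ) (1 : C)).coeff d = 0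
      rw [show d = (d - N) + N by ring, AddMonoidAlgebra.coeff_mul_single_add, _root_.mul_one]
      exact hneg q (d - N) (by omega)
    haveI hft : Algebra.FiniteType k C := by
      haveI := hgeniso
      have h : LocallyOfFiniteType (VecGrp.pt k C).hom := by rw [← Over.w gen]; infer_instance
      change LocallyOfFiniteType (Spec.map (CommRingCat.ofHom (algebraMap k C))) at h
      rwa [HasRingHomProperty.Spec_iff (P := @LocallyOfFiniteType), CommRingCat.hom_ofHom,
        RingHom.finiteType_algebraMap] at h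
    haveI : IsNoetherianRing C := Algebra.FiniteType.isNoetherianRing k C
    haveI : Module.Finite k (C ⧸ 𝔪) :=
      Module.Finite.equiv (Ideal.quotientKerAlgEquivOfSurjective (f := e₀) fun c => ⟨algebraMap k C c, e₀.commutes c⟩).toLinearEquiv.symm
    haveI hfinN : Module.Finite k (C ⧸ 𝔪 ^ N) := by
      have hle : 𝔪 ^ N ≤ 𝔪 := Ideal.pow_le_self (Nat.succ_ne_zero _)
      let f : (C ⧸ 𝔪 ^ N) →ₐ[k] C ⧸ 𝔪 := Ideal.Quotient.factorₐ k hle
      have hnil : RingHom.ker f ≤ nilradical (C ⧸ 𝔪 ^ N) := by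
        intro x hx
        obtain ⟨c, rfl⟩ := Ideal.Quotient.mk_surjective x
        refine mem_nilradical.2 ⟨N, ?_⟩
        rw [← map_pow]
        exact Ideal.Quotient.eq_zero_iff_mem.2 (Ideal.pow_mem_pow (Ideal.Quotient.eq_zero_iff_mem.1 hx) N)
      exact Module.finite_of_surjective_of_ker_le_nilradical f (Ideal.Quotient.factor_surjective hle) hnil
        (IsNoetherian.noetherian (RingHom.ker f))
    refine Module.Finite.of_injective ((Ideal.Quotient.mkₐ k (𝔪 ^ N)).toLinearMap.comp (piece d).subtype) ?_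
    rw [← LinearMap.ker_eq_bot, Submodule.eq_bot_iff]
    rintro ⟨c, hc⟩ hc0
    exact Subtype.ext (hinj c hc (Ideal.Quotient.eq_zero_iff_mem.1 hc0))
  · -- the components
    set z := ρ.ρ C (gen ≫ i) ((1 : C) ⊗ₜ[k] v) with hz
    obtain ⟨S, hS0, hS⟩ := exists_support_tensor L ρ z
    have hkey : VecGrp.Wmap θ z =
        ∑ m ∈ S, (LaurentPolynomial.T (m - n) : C[T;T⁻¹]) •
          VecGrp.Wmap (const C) ((proj L ρ m).baseChange C z) := by
      have e1 : VecGrp.ptMap θ ≫ gen ≫ i = (VecGrp.ptMap (scal C) ≫ L.pt) * (VecGrp.ptMap (const C) ≫ gen ≫ i) *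
          (VecGrp.ptMap (scal C) ≫ L.pt)⁻¹ := by
        rw [← ptMap_comp, Category.assoc, reassoc_of% hφ, hδ]
      rw [hz, ρ.naturality, VecGrp.Wmap_tmul, map_one, e1, map_mul, map_mul, LinearEquiv.mul_apply,
        LinearEquiv.mul_apply, act_inv L ρ hv]
      conv_lhs => rw [← _root_.mul_one (LaurentPolynomial.T (-n) : C[T;T⁻¹]), ← smul_eq_mul,
        ← TensorProduct.smul_tmul', map_smul, map_smul]
      have e2 : ρ.ρ C[T;T⁻¹] (VecGrp.ptMap (const C) ≫ gen ≫ i) ((1 : C[T;T⁻¹]) ⊗ₜ[k] v) =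
          ∑ m ∈ S, (proj L ρ m).baseChange _ (VecGrp.Wmap (const C) z) := by
        simp only [← proj_baseChange_natural]
        rw [← map_sum, hS, hz, ρ.naturality, VecGrp.Wmap_tmul, map_one]
      rw [e2, map_sum, Finset.smul_sum]
      refine Finset.sum_congr rfl fun m _ => ?_
      rw [act_baseChange, smul_smul, ← LaurentPolynomial.T_add, proj_baseChange_natural, neg_add_eq_sub]
    intro m
    set y := (proj L ρ m).baseChange C z with hy
    have hθy : VecGrp.Wmap θ y = (LaurentPolynomial.T (m - n) : C[T;T⁻¹]) • VecGrp.Wmap (const C) y := by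
      rw [hy, proj_baseChange_natural, hkey, map_sum]
      have e : ∀ j, (proj L ρ m).baseChange C[T;T⁻¹] ((LaurentPolynomial.T (j - n) : C[T;T⁻¹]) •
          VecGrp.Wmap (const C) ((proj L ρ j).baseChange C z)) =
            if j = m then (LaurentPolynomial.T (m - n) : C[T;T⁻¹]) • VecGrp.Wmap (const C) y else 0 := by
        intro j
        rw [map_smul, ← proj_baseChange_natural, ← LinearMap.comp_apply, ← LinearMap.baseChange_comp]
        split_ifs with hj
        · subst hj
          rw [show (proj L ρ j) ∘ₗ (proj L ρ j) = proj L ρ j from LinearMap.ext fun w => by simp [proj_proj]]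
        · rw [show (proj L ρ m) ∘ₗ (proj L ρ j) = 0 from LinearMap.ext fun w => by simp [proj_proj, hj]]
          simp
      rw [Finset.sum_congr rfl fun j _ => e j, Finset.sum_ite_eq']
      split_ifs with hm
      · rfl
      · rw [hS0 m hm]; simp
    let b := Module.Free.chooseBasis k V
    have hcoord : ∀ j, ((b.baseChange C).repr y j) ∈ piece (m - n) := by
      intro j
      rw [hpiece]
      have e : ∀ {B B' : Type u} [CommRing B] [Algebra k B] [CommRing B'] [Algebra k B'] (f : B →ₐ[k] B')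
          (w : B ⊗[k] V), (b.baseChange B').repr (VecGrp.Wmap f w) j = f ((b.baseChange B).repr w j) := by
        intro B B' _ _ _ _ f w
        induction w using TensorProduct.induction_on with
        | zero => simp
        | add p q hp hq => simp only [map_add, Finsupp.add_apply, hp, hq]
        | tmul c a =>
          rw [VecGrp.Wmap_tmul, Module.Basis.baseChange_repr_tmul, Module.Basis.baseChange_repr_tmul, map_smul]
      have h1 := congrArg (fun w => (b.baseChange C[T;T⁻¹]).repr w j) hθy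
      simp only [map_smul, Finsupp.smul_apply, e, smul_eq_mul] at h1
      rw [h1, mul_comm]
    have hrange : y ∈ LinearMap.range ((piece (m - n)).subtype.rTensor V) := by
      rw [← (b.baseChange C).linearCombination_repr y, Finsupp.linearCombination_apply, Finsupp.sum]
      refine sum_mem fun j _ => ⟨⟨_, hcoord j⟩ ⊗ₜ[k] b j, ?_⟩
      rw [LinearMap.rTensor_tmul, Module.Basis.baseChange_apply, TensorProduct.smul_tmul', smul_eq_mul,
        _root_.mul_one]
      rfl
    refine ⟨fun hlt => ?_, fun heq => ?_, hrange⟩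
    · refine (b.baseChange C).repr.injective (Finsupp.ext fun j => ?_)
      have h1 := congrArg (fun w : C[T;T⁻¹] => w.coeff (m - n)) ((hpiece _ _).1 (hcoord j))
      simp only [hcoe, if_pos] at h1
      rw [← h1, map_zero, Finsupp.zero_apply]
      exact hneg _ (m - n) (by omega)
    · subst heq
      have hconst : y = VecGrp.Wmap (Algebra.ofId k C) (VecGrp.Wmap e₀ y) := by
        refine (b.baseChange C).repr.injective (Finsupp.ext fun j => ?_)
        have e : ∀ w : C ⊗[k] V, (b.baseChange C).repr (VecGrp.Wmap (Algebra.ofId k C) (VecGrp.Wmap e₀ w)) j =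
            algebraMap k C (e₀ ((b.baseChange C).repr w j)) := by
          intro w
          induction w using TensorProduct.induction_on with
          | zero => simp
          | add p q hp hq => simp only [map_add, Finsupp.add_apply, hp, hq]
          | tmul c a =>
            rw [VecGrp.Wmap_tmul, VecGrp.Wmap_tmul, Module.Basis.baseChange_repr_tmul,
              Module.Basis.baseChange_repr_tmul, map_smul e₀, Algebra.ofId_apply, smul_eq_mul, map_mul,
              Algebra.smul_def]
        rw [e]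
        have h1 := (hpiece _ _).1 (hcoord j)
        rw [sub_self, LaurentPolynomial.T_zero, _root_.mul_one] at h1
        have h2 : φ ((b.baseChange C).repr y j) = Polynomial.C ((b.baseChange C).repr y j) :=
          Polynomial.toLaurent_injective (by rw [Polynomial.toLaurent_C]; exact h1)
        have h3 := hφ0 ((b.baseChange C).repr y j)
        rw [h2] at h3
        simpa using h3
      rw [hconst, hy, proj_baseChange_natural, hz, ρ.naturality, VecGrp.Wmap_tmul, map_one, reassoc_of% he₀,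
        MonObj.one_comp, map_one, LinearEquiv.coe_one, id_eq, LinearMap.baseChange_tmul, proj_of_mem L ρ hv,
        if_pos rfl, VecGrp.Wmap_tmul, map_one]

end Groth.L16.Weights
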