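import Groth.Agent.L16.Weights.Attract
import Groth.Agent.L16.GeomRed.Quotient
import Groth.Agent.L16.Matsushima.PolyAct
import Mathlib.LinearAlgebra.Dimension.Finite
import Mathlib.Order.Interval.Finset.Defs

/-!
# Modules with finite-dimensional invariants under two opposite attracted subgroups are finite-dimensional
-/

set_option autoImplicit false
set_option backward.isDefEq.respectTransparency.types false
set_option linter.unusedSectionVars false
set_option linter.style.haveILetI false
set_option maxHeartbeats 1000000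

universe u v

open CategoryTheory MonoidalCategory CartesianMonoidalCategory MonObj AlgebraicGeometry
open scoped TensorProduct LaurentPolynomial
open Groth.L25.Observable

noncomputable section

namespace Groth.L16.Weights

variable {k : Type u} [Field k] [IsAlgClosed k] {G H : Over (Spec (CommRingCat.of k))} [GrpObj G] [GrpObj H]
  [IsAffine G.left] [Smooth G.hom] (L : Cochar G) {V : Type u} [AddCommGroup V] [Module k V] (ρ : VecGrp.GMod G V)

theorem proj_mem_of_isStable {W : Submodule k V} (hW : ρ.IsStable (𝟙 G) W) {w : V} (hw : w ∈ W) (n : ℤ) :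
    proj L ρ n w ∈ W := by
  have h := hW k[T;T⁻¹] L.pt w hw
  rw [Category.comp_id] at h
  show TensorProduct.lid k V (cf n (ρ.ρ k[T;T⁻¹] L.pt ((1 : k[T;T⁻¹]) ⊗ₜ[k] w))) ∈ W
  generalize ρ.ρ k[T;T⁻¹] L.pt ((1 : k[T;T⁻¹]) ⊗ₜ[k] w) = z at h
  obtain ⟨y, rfl⟩ := h
  induction y using TensorProduct.induction_on with
  | zero => simp
  | add p q hp hq => rw [map_add, map_add, map_add]; exact add_mem hp hq
  | tmul f a =>
    rw [LinearMap.baseChange_tmul, cf_tmul, TensorProduct.lid_tmul]
    exact W.smul_mem _ a.2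

/-- A nonzero homogeneous vector lies below a nonzero homogeneous invariant vector. -/
theorem exists_fixed_ge [IsAffine H.left] [LocallyOfFiniteType H.hom] (i : H ⟶ G) [IsMonHom i] (ha : Attracts L i)
    {n : ℤ} {v : V} (hv : v ∈ part L ρ n) (hv0 : v ≠ 0) :
    ∃ N, n ≤ N ∧ ∃ w ∈ part L ρ N, w ≠ 0 ∧ w ∈ ρ.fixedUnder i := by
  classical
  obtain ⟨W, hWfin, hvW, hWst⟩ := Groth.L16.GeomRed.exists_finite_stable ρ v
  have hW := Groth.L16.Matsushima.isStable_of_pts ρ W hWst
  obtain ⟨s, hs⟩ := (Module.Finite.iff_fg.1 hWfin : W.FG)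
  choose S hS _ using fun x : V => exists_support L ρ x
  let D : Finset ℤ := (s.biUnion S).filter fun m => ∃ w ∈ W, w ∈ part L ρ m ∧ w ≠ 0
  have hD : ∀ m w, w ∈ W → proj L ρ m w ≠ 0 → m ∈ D := by
    intro m w hw hne
    refine Finset.mem_filter.2 ⟨?_, proj L ρ m w, proj_mem_of_isStable L ρ hW hw m, proj_mem L ρ m w, hne⟩
    by_contra hm
    refine hne ?_
    clear hne
    rw [← hs] at hw
    induction hw using Submodule.span_induction with
    | mem x hx => exact hS x m fun h => hm (Finset.mem_biUnion.2 ⟨x, hx, h⟩)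
    | zero => exact map_zero _
    | add x y _ _ hx hy => rw [map_add, hx, hy, add_zero]
    | smul c x _ hx => rw [map_smul, hx, smul_zero]
  have hn : n ∈ D := hD n v hvW (by rwa [proj_of_mem L ρ hv, if_pos rfl])
  obtain ⟨N, hN, hNmax⟩ := D.exists_max_image id ⟨n, hn⟩
  obtain ⟨-, w, hwW, hwN, hw0⟩ := Finset.mem_filter.1 hN
  refine ⟨N, hNmax n hn, w, hwN, hw0, ?_⟩
  obtain ⟨alg, γ, piece, hfac, -, hy⟩ := exists_triangular L ρ i ha
  letI := alg
  have hst := hW Γ(H.left, ⊤) (γ ≫ i) w hwW
  rw [Category.comp_id] at hst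
  have hfix : ρ.ρ Γ(H.left, ⊤) (γ ≫ i) ((1 : Γ(H.left, ⊤)) ⊗ₜ[k] w) = (1 : Γ(H.left, ⊤)) ⊗ₜ[k] w := by
    obtain ⟨T', hT0, hT⟩ := exists_support_tensor L ρ (ρ.ρ Γ(H.left, ⊤) (γ ≫ i) ((1 : Γ(H.left, ⊤)) ⊗ₜ[k] w))
    have hzero : ∀ m, m ≠ N →
        (proj L ρ m).baseChange _ (ρ.ρ Γ(H.left, ⊤) (γ ≫ i) ((1 : Γ(H.left, ⊤)) ⊗ₜ[k] w)) = 0 := by
      intro m hm
      rcases lt_or_gt_of_ne hm with h | h
      · exact (hy hwN m).1 h
      · generalize ρ.ρ Γ(H.left, ⊤) (γ ≫ i) ((1 : Γ(H.left, ⊤)) ⊗ₜ[k] w) = z at hst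
        obtain ⟨y, rfl⟩ := hst
        induction y using TensorProduct.induction_on with
        | zero => simp
        | add p q hp hq => rw [map_add, map_add, hp, hq, add_zero]
        | tmul f a =>
          rw [LinearMap.baseChange_tmul, LinearMap.baseChange_tmul, show proj L ρ m (W.subtype a) = 0 from by
            by_contra hne; exact absurd (hNmax m (hD m a a.2 hne)) (not_le.2 h), TensorProduct.tmul_zero]
    rw [← hT, Finset.sum_eq_single N (fun m _ hm => hzero m hm) fun h => hT0 N h]
    exact (hy hwN N).2.1 rfl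
  intro B _ _ g
  obtain ⟨φ, hφ⟩ := hfac B g
  rw [← hφ, Category.assoc, ← map_one φ, ← VecGrp.Wmap_tmul φ, ← ρ.naturality, hfix]

theorem finite_degrees (F : Submodule k V) [Module.Finite k F] :
    {n : ℤ | ∃ w ∈ part L ρ n, w ≠ 0 ∧ w ∈ F}.Finite := by
  classical
  by_contra hinf
  obtain ⟨t, ht, hcard⟩ := (Set.Infinite.exists_subset_card_eq hinf (Module.finrank k F + 1))
  choose w hw hw0 hwF using fun n : t => ht n.2
  have hli : LinearIndependent k fun n : t => (⟨w n, hwF n⟩ : F) := by
    rw [Fintype.linearIndependent_iff]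
    intro c hc j
    have h := congrArg (fun x : F => proj L ρ j.1 x.1) hc
    simp only [Submodule.coe_sum, Submodule.coe_smul, ZeroMemClass.coe_zero, map_sum, map_smul, map_zero,
      fun n : t => proj_of_mem L ρ (hw n) j.1] at h
    rw [Finset.sum_eq_single j (fun b _ hb => by rw [if_neg fun e => hb (Subtype.ext e), smul_zero])
      (fun h' => absurd (Finset.mem_univ _) h'), if_pos rfl] at h
    exact (smul_eq_zero.1 h).resolve_right (hw0 j)
  have := hli.fintype_card_le_finrank
  rw [Fintype.card_coe, hcard] at this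
  omega

/-- **A module whose invariants under two opposite attracted subgroups are finite-dimensional is finite-dimensional.** -/
theorem finite_of_attracted {H' : Over (Spec (CommRingCat.of k))} [GrpObj H'] [IsAffine H.left]
    [LocallyOfFiniteType H.hom] [IsAffine H'.left] [LocallyOfFiniteType H'.hom] (i : H ⟶ G) [IsMonHom i]
    (ha : Attracts L i) (i' : H' ⟶ G) [IsMonHom i'] (ha' : Attracts L.neg i')
    [Module.Finite k (ρ.fixedUnder i)] [Module.Finite k (ρ.fixedUnder i')] : Module.Finite k V := by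
  classical
  obtain ⟨M, hM⟩ := (finite_degrees L ρ (ρ.fixedUnder i)).bddAbove
  obtain ⟨M', hM'⟩ := (finite_degrees L.neg ρ (ρ.fixedUnder i')).bddAbove
  have hbnd : ∀ n v, v ∈ part L ρ n → v ≠ 0 → -M' ≤ n ∧ n ≤ M := by
    intro n v hv hv0
    obtain ⟨N, hN, w, h1, h2, h3⟩ := exists_fixed_ge L ρ i ha hv hv0
    obtain ⟨N', hN', w', h1', h2', h3'⟩ := exists_fixed_ge L.neg ρ i' ha' (n := -n)
      (by rwa [part_neg, neg_neg]) hv0
    have e1 := hM ⟨w, h1, h2, h3⟩
    have e2 := hM' ⟨w', h1', h2', h3'⟩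
    exact ⟨by omega, by omega⟩
  obtain ⟨alg, γ, piece, hfac, hpiece, hy⟩ := exists_triangular L ρ i ha
  letI := alg
  have hparts : ∀ j : ℕ, Module.Finite k (part L ρ (M + 1 - j)) := by
    intro j
    induction j using Nat.strong_induction_on with
    | _ j ih =>
    set n : ℤ := M + 1 - j with hn
    by_cases hj : j = 0
    · have hbot : part L ρ n = ⊥ := (Submodule.eq_bot_iff _).2 fun v hv => by
        by_contra hv0
        have := (hbnd n v hv hv0).2
        omega
      rw [hbot]; infer_instance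
    let I := Finset.Icc (n + 1) M
    have hfin : ∀ m : I, Module.Finite k
        (LinearMap.range (TensorProduct.map (piece (m.1 - n)).subtype (part L ρ m.1).subtype)) := by
      rintro ⟨m, hm⟩
      obtain ⟨h1, h2⟩ := Finset.mem_Icc.1 hm
      haveI := hpiece (m - n) (by omega)
      haveI : Module.Finite k (part L ρ m) := by
        have e : m = M + 1 - ((M + 1 - m).toNat : ℕ) := by omega
        rw [e]
        exact ih _ (by omega)
      exact Module.Finite.range _
    let Φ : part L ρ n →ₗ[k] ∀ _ : I, Γ(H.left, ⊤) ⊗[k] V :=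
      LinearMap.pi fun m => ((proj L ρ m.1).baseChange Γ(H.left, ⊤)).restrictScalars k ∘ₗ
        ((ρ.ρ Γ(H.left, ⊤) (γ ≫ i)).toLinearMap.restrictScalars k) ∘ₗ TensorProduct.mk k Γ(H.left, ⊤) V 1 ∘ₗ
          (part L ρ n).subtype
    refine Module.Finite.iff_fg.2 ?_
    rw [← Submodule.map_subtype_top (part L ρ n)]
    refine Submodule.FG.map _ ?_
    refine Submodule.fg_of_fg_map_of_fg_inf_ker Φ ?_ ?_
    · let R : ∀ _ : I, Submodule k (Γ(H.left, ⊤) ⊗[k] V) := fun m =>
        LinearMap.range (TensorProduct.map (piece (m.1 - n)).subtype (part L ρ m.1).subtype)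
      haveI : ∀ m, Module.Finite k (R m) := hfin
      haveI : Module.Finite k (Submodule.pi Set.univ R) :=
        Module.Finite.of_surjective
          (LinearMap.codRestrict _ (LinearMap.pi fun m => (R m).subtype ∘ₗ LinearMap.proj m)
            fun x m _ => (x m).2)
          fun y => ⟨fun m => ⟨y.1 m, y.2 m trivial⟩, rfl⟩
      refine Submodule.FG.of_le (T := Submodule.pi Set.univ R) (Module.Finite.iff_fg.1 inferInstance) ?_
      rintro _ ⟨v, -, rfl⟩ m -
      obtain ⟨x, hx⟩ := (hy v.2 m.1).2.2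
      refine ⟨TensorProduct.map LinearMap.id ((proj L ρ m.1).codRestrict _ (proj_mem L ρ m.1)) x, ?_⟩
      show _ = (proj L ρ m.1).baseChange _ (ρ.ρ _ (γ ≫ i) ((1 : Γ(H.left, ⊤)) ⊗ₜ[k] (v : V)))
      conv_rhs => rw [show proj L ρ m.1 = proj L ρ m.1 ∘ₗ proj L ρ m.1 from
        LinearMap.ext fun a => by simp [proj_proj], LinearMap.baseChange_comp, LinearMap.comp_apply, ← hx]
      clear hx
      induction x using TensorProduct.induction_on with
      | zero => simp
      | add p q hp hq => simp only [map_add, hp, hq]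
      | tmul c a => rfl
    · rw [top_inf_eq]
      have hker : ∀ v : part L ρ n, v ∈ LinearMap.ker Φ → (v : V) ∈ ρ.fixedUnder i := by
        intro v hv B _ _ g
        obtain ⟨φ, hφ⟩ := hfac B g
        obtain ⟨T', hT0, hT⟩ := exists_support_tensor L ρ (ρ.ρ Γ(H.left, ⊤) (γ ≫ i) ((1 : Γ(H.left, ⊤)) ⊗ₜ[k] (v : V)))
        have hfix : ρ.ρ Γ(H.left, ⊤) (γ ≫ i) ((1 : Γ(H.left, ⊤)) ⊗ₜ[k] (v : V)) = (1 : Γ(H.left, ⊤)) ⊗ₜ[k] (v : V) := by
          rw [← hT, Finset.sum_eq_single n (fun m _ hm => ?_) fun h => hT0 n h]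
          · exact (hy v.2 n).2.1 rfl
          rcases lt_or_gt_of_ne hm with h | h
          · exact (hy v.2 m).1 h
          by_cases hmM : m ≤ M
          · exact congrFun hv ⟨m, Finset.mem_Icc.2 ⟨h, hmM⟩⟩
          · have h0 : proj L ρ m = 0 := LinearMap.ext fun a => by
              by_contra hne
              exact hmM (hbnd m _ (proj_mem L ρ m a) hne).2
            rw [h0]; simp
        rw [← hφ, Category.assoc, ← map_one φ, ← VecGrp.Wmap_tmul φ, ← ρ.naturality, hfix]
      let f : LinearMap.ker Φ →ₗ[k] ρ.fixedUnder i :=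
        LinearMap.codRestrict _ ((part L ρ n).subtype ∘ₗ (LinearMap.ker Φ).subtype) fun v => hker v.1 v.2
      haveI := Module.Finite.of_injective f fun a b e => Subtype.ext (Subtype.ext (congrArg Subtype.val e :))
      exact Module.Finite.iff_fg.1 inferInstance
  have hpart : ∀ n, (part L ρ n).FG := fun n => by
    by_cases h : n ≤ M + 1
    · have e : n = M + 1 - ((M + 1 - n).toNat : ℕ) := by omega
      rw [e]
      exact Module.Finite.iff_fg.1 (hparts _)
    · rw [show part L ρ n = ⊥ from (Submodule.eq_bot_iff _).2 fun v hv => by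
        by_contra hv0
        have := (hbnd n v hv hv0).2
        omega]
      exact Submodule.fg_bot
  refine ⟨?_⟩
  have htop : (⊤ : Submodule k V) = (Finset.Icc (-M') M).sup fun n => part L ρ n := by
    refine le_antisymm (fun v _ => ?_) le_top
    obtain ⟨S, hS, -⟩ := exists_support L ρ v
    rw [← sum_proj L ρ hS]
    refine sum_mem fun n _ => ?_
    by_cases h0 : proj L ρ n v = 0
    · rw [h0]; exact zero_mem _
    exact Finset.le_sup (f := fun n => part L ρ n) (Finset.mem_Icc.2 (hbnd n _ (proj_mem L ρ n v) h0)) (proj_mem L ρ n v)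
  rw [htop]
  exact Finset.sup_induction Submodule.fg_bot (fun a ha b hb => ha.sup hb) fun n _ => hpart n

end Groth.L16.Weights
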