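import Groth.Agent.L16.Weights.Regular
import Groth.Agent.L16.Weights.Finite

/-!
# A rational module with finite-dimensional invariants of a maximal unipotent subgroup is finite-dimensional
-/

set_option autoImplicit false
set_option backward.isDefEq.respectTransparency.types false
set_option linter.unusedSectionVars false
set_option linter.style.haveILetI false
set_option maxHeartbeats 1000000

universe u

open CategoryTheory MonoidalCategory CartesianMonoidalCategory MonObj AlgebraicGeometry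
open scoped TensorProduct
open Groth.L25.Observable

noncomputable section

namespace Groth.L16.Weights

variable {k : Type u} [Field k] [IsAlgClosed k] {G U U' : Over (Spec (CommRingCat.of k))} [GrpObj G] [GrpObj U] [GrpObj U']
  {V : Type u} [AddCommGroup V] [Module k V] (ρ : VecGrp.GMod G V)

/-- Invariants of a subgroup containing a conjugate of another one map to invariants of the latter. -/
theorem ptAct_inv_mem_fixedUnder (i : U ⟶ G) (i' : U' ⟶ G) (g : 𝟙_ (Over (Spec (CommRingCat.of k))) ⟶ G)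
    (f : U ⟶ U') (hf : f ≫ i' = AGF.conjBy g i) {v : V} (hv : v ∈ ρ.fixedUnder i') :
    ptAct ρ (toUnit _ ≫ g)⁻¹ v ∈ ρ.fixedUnder i := by
  intro B _ _ x
  let gB : VecGrp.pt k B ⟶ G := toUnit _ ≫ g
  have hg : VecGrp.ptMap (Algebra.ofId k B) ≫ (toUnit (VecGrp.pt k k) ≫ g)⁻¹ = gB⁻¹ := by
    rw [GrpObj.comp_inv, ← Category.assoc, toUnit_unique (VecGrp.ptMap (Algebra.ofId k B) ≫ toUnit _) (toUnit _)]
  have h1 : ρ.ρ B gB⁻¹ ((1 : B) ⊗ₜ[k] v) = (1 : B) ⊗ₜ[k] ptAct ρ (toUnit _ ≫ g)⁻¹ v := by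
    have h := congrArg (VecGrp.Wmap (Algebra.ofId k B)) (ptAct_spec ρ (toUnit _ ≫ g)⁻¹ v)
    rwa [ρ.naturality, VecGrp.Wmap_tmul, VecGrp.Wmap_tmul, map_one, hg] at h
  have h2 : (x ≫ i) * gB⁻¹ = gB⁻¹ * ((x ≫ f) ≫ i') := by
    rw [Category.assoc, hf]
    simp only [AGF.conjBy, MonObj.comp_mul, GrpObj.comp_inv, ← Category.assoc]
    rw [toUnit_unique (x ≫ toUnit U) (toUnit _)]
    simp only [gB]
    group
  rw [← h1, ← LinearEquiv.mul_apply, ← map_mul, h2, map_mul, LinearEquiv.mul_apply, hv B (x ≫ f)]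

theorem ptAct_inv_injective (g : VecGrp.pt k k ⟶ G) : Function.Injective (ptAct ρ g⁻¹) := by
  intro v w h
  have := congrArg (ptAct ρ g) h
  rw [← ptAct_mul, ← ptAct_mul, mul_inv_cancel] at this
  simpa [ptAct] using this

/-- A rational module with finite-dimensional invariants of a maximal unipotent subgroup is finite-dimensional. -/
theorem finite_of_fixedUnder {Bo : Over (Spec (CommRingCat.of k))} [GrpObj Bo]
    (hG : VecGrp.IsReductiveGrp k G) {iB : Bo ⟶ G} (hB : Red.IsBorelOver k iB) {u : U ⟶ Bo}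
    (hU : Par.IsUnipotentRadical u) [Module.Finite k (ρ.fixedUnder (u ≫ iB))] : Module.Finite k V := by
  obtain ⟨L, U₁, _, i', g, hi', hUa, hUf, ha, ha', f, hf⟩ := exists_regular hG hB hU
  haveI : IsAffine G.left := hG.1
  haveI : Smooth G.hom := hG.2.1
  haveI := hB.1; haveI := hB.2.1; haveI := hU.1; haveI := hU.2.1; haveI := hU.2.2.2.1
  haveI := hi'; haveI := hUa; haveI := hUf
  haveI : IsClosedImmersion (u ≫ iB).left := inferInstanceAs (IsClosedImmersion (u.left ≫ iB.left))
  haveI : IsAffine U.left := isAffine_of_isAffineHom (u ≫ iB).left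
  haveI : IsMonHom (u ≫ iB) := inferInstance
  let φ : ρ.fixedUnder i' →ₗ[k] ρ.fixedUnder (u ≫ iB) :=
    LinearMap.codRestrict _ (ptAct ρ (toUnit _ ≫ g)⁻¹ ∘ₗ (ρ.fixedUnder i').subtype)
      fun v => ptAct_inv_mem_fixedUnder ρ (u ≫ iB) i' g f hf v.2
  haveI : Module.Finite k (ρ.fixedUnder i') := Module.Finite.of_injective φ fun v w e =>
    Subtype.ext (ptAct_inv_injective ρ _ (congrArg Subtype.val e :))
  exact finite_of_attracted L ρ (u ≫ iB) ha i' ha'

end Groth.L16.Weights
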