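import Groth.Agent.L16.Weights.Torus

/-!
# The degree filtration of a rational module
-/

set_option autoImplicit false
set_option backward.isDefEq.respectTransparency.types false
set_option linter.unusedSectionVars false
set_option linter.style.haveILetI false
set_option maxHeartbeats 1000000

universe u

open CategoryTheory MonoidalCategory CartesianMonoidalCategory MonObj AlgebraicGeometry
open scoped TensorProduct LaurentPolynomial
open Groth.L25.Observable

noncomputable section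

namespace Groth.L16.Weights

variable {k : Type u} [Field k] [IsAlgClosed k] {G T U U' : Over (Spec (CommRingCat.of k))} [GrpObj G] [GrpObj T]
  [GrpObj U] [GrpObj U']

/-- The products `U' T U` of rational points are dense. -/
def Dense (iU' : U' ⟶ G) (iT : T ⟶ G) (iU : U ⟶ G) : Prop :=
  ∀ f : Γ(G.left, ⊤), (∀ (x : VecGrp.pt k k ⟶ U') (t : VecGrp.pt k k ⟶ T) (y : VecGrp.pt k k ⟶ U),
    val ((x ≫ iU') * (t ≫ iT) * (y ≫ iU)) f = 0) → f = 0

variable {V : Type u} [AddCommGroup V] [Module k V] (ρ : VecGrp.GMod G V)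

/-- A subspace containing the translates by a dense set contains all translates. -/
theorem orbit_mem [IsAffine G.left] [Smooth G.hom] {iU' : U' ⟶ G} {iT : T ⟶ G} {iU : U ⟶ G}
    (hd : Dense iU' iT iU) (W : Submodule k V) {v : V}
    (h : ∀ (x : VecGrp.pt k k ⟶ U') (t : VecGrp.pt k k ⟶ T) (y : VecGrp.pt k k ⟶ U),
      ptAct ρ ((x ≫ iU') * (t ≫ iT) * (y ≫ iU)) v ∈ W) (g : VecGrp.pt k k ⟶ G) : ptAct ρ g v ∈ W := by
  obtain ⟨alg, gen, _, hgen, hfac⟩ := exists_gen G
  letI := alg
  let b := Module.Free.chooseBasis k (V ⧸ W)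
  let z := (W.mkQ).baseChange Γ(G.left, ⊤) (ρ.ρ _ gen ((1 : Γ(G.left, ⊤)) ⊗ₜ[k] v))
  have key : ∀ (γ : VecGrp.pt k k ⟶ G) (j : _), val γ ((b.baseChange Γ(G.left, ⊤)).repr z j) =
      b.repr (W.mkQ (ptAct ρ γ v)) j := by
    intro γ j
    obtain ⟨φ, hφ, hval⟩ := hfac k γ
    have key2 : ∀ w : Γ(G.left, ⊤) ⊗[k] V, φ ((b.baseChange Γ(G.left, ⊤)).repr ((W.mkQ).baseChange _ w) j) =
        b.repr (W.mkQ (TensorProduct.lid k V (VecGrp.Wmap φ w))) j := by
      intro w
      induction w using TensorProduct.induction_on with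
      | zero => simp
      | add p q hp hq => simp only [map_add, Finsupp.add_apply, hp, hq]
      | tmul c a => simp [VecGrp.Wmap, mul_comm]
    rw [← hval]
    refine (key2 _).trans ?_
    rw [ρ.naturality, VecGrp.Wmap_tmul, map_one, hφ]
    rfl
  rw [← Submodule.Quotient.mk_eq_zero]
  refine b.repr.injective (Finsupp.ext fun j => ?_)
  rw [map_zero, Finsupp.zero_apply, ← Submodule.mkQ_apply, ← key g j]
  rw [hd ((b.baseChange Γ(G.left, ⊤)).repr z j) fun x t y => by
    rw [key, Submodule.mkQ_apply, (Submodule.Quotient.mk_eq_zero W).2 (h x t y)]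
    simp]
  exact congrArg (fun a => a) (by simp [val])

variable [IsAffine U.left] [LocallyOfFiniteType U.hom]

/-- Translates of a homogeneous vector by a contracted subgroup. -/
theorem proj_ptAct_attracted (L : Cochar G) (i : U ⟶ G) [IsMonHom i] (ha : Attracts L i) {n : ℤ} {w : V}
    (hw : w ∈ part L ρ n) (x : VecGrp.pt k k ⟶ U) (m : ℤ) :
    (m < n → proj L ρ m (ptAct ρ (x ≫ i) w) = 0) ∧ (m = n → proj L ρ m (ptAct ρ (x ≫ i) w) = w) := by
  obtain ⟨alg, γ, piece, hfac, -, hy⟩ := exists_triangular L ρ i ha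
  letI := alg
  obtain ⟨φ, hφ⟩ := hfac k x
  have h0 : VecGrp.Wmap φ ((proj L ρ m).baseChange _ (ρ.ρ _ (γ ≫ i) ((1 : Γ(U.left, ⊤)) ⊗ₜ[k] w))) =
      (1 : k) ⊗ₜ[k] proj L ρ m (ptAct ρ (x ≫ i) w) := by
    rw [proj_baseChange_natural, ρ.naturality, VecGrp.Wmap_tmul, map_one, reassoc_of% hφ, ptAct_spec,
      LinearMap.baseChange_tmul]
  refine ⟨fun h => ?_, fun h => ?_⟩
  · rw [(hy hw m).1 h, map_zero] at h0
    simpa using (congrArg (TensorProduct.lid k V) h0).symm
  · rw [(hy hw m).2.1 h, VecGrp.Wmap_tmul, map_one] at h0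
    simpa using (congrArg (TensorProduct.lid k V) h0).symm

section Filtration

variable (iT : T ⟶ G) [IsMonHom iT] (L : Cochar T)

/-- The component of degree `n` for a one-parameter subgroup of a subgroup. -/
abbrev deg (n : ℤ) : V →ₗ[k] V := proj L (comap ρ iT) n

/-- The vectors all of whose translates have degrees at most `n`. -/
def filt (n : ℤ) : Submodule k V where
  carrier := {v | ∀ (g : VecGrp.pt k k ⟶ G) (m : ℤ), n < m → deg ρ iT L m (ptAct ρ g v) = 0}
  add_mem' {x y} hx hy := fun g m hm => by rw [map_add, map_add, hx g m hm, hy g m hm, add_zero]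
  zero_mem' := fun g m _ => by simp
  smul_mem' c {x} hx := fun g m hm => by rw [map_smul, map_smul, hx g m hm, smul_zero]

theorem mem_filt {n : ℤ} {v : V} :
    v ∈ filt ρ iT L n ↔ ∀ (g : VecGrp.pt k k ⟶ G) (m : ℤ), n < m → deg ρ iT L m (ptAct ρ g v) = 0 := Iff.rfl

theorem ptAct_mem_filt {n : ℤ} {v : V} (hv : v ∈ filt ρ iT L n) (g : VecGrp.pt k k ⟶ G) :
    ptAct ρ g v ∈ filt ρ iT L n := fun h m hm => by rw [← ptAct_mul]; exact hv _ m hm

theorem filt_mono {n m : ℤ} (h : n ≤ m) : filt ρ iT L n ≤ filt ρ iT L m := fun _ hv g j hj => hv g j (by omega)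

theorem mem_filt_pred {n : ℤ} {v : V} (hv : v ∈ filt ρ iT L n)
    (h : ∀ g : VecGrp.pt k k ⟶ G, deg ρ iT L n (ptAct ρ g v) = 0) : v ∈ filt ρ iT L (n - 1) := fun g m hm => by
  rcases eq_or_lt_of_le (show n ≤ m by omega) with rfl | h'
  · exact h g
  · exact hv g m h'

variable [IsAffine G.left] [Smooth G.hom]

theorem exists_mem_filt (v : V) : ∃ n : ℤ, v ∈ filt ρ iT L n := by
  classical
  obtain ⟨W, hWfin, hvW, hWst⟩ := Groth.L16.GeomRed.exists_finite_stable ρ v
  obtain ⟨s, hs⟩ := (Module.Finite.iff_fg.1 hWfin : W.FG)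
  choose S hS _ using fun x : V => exists_support L (comap ρ iT) x
  obtain ⟨N, hN⟩ := (s.biUnion S).bddAbove
  refine ⟨N, fun g m hm => ?_⟩
  have hw : ptAct ρ g v ∈ W := hWst g v hvW
  rw [← hs] at hw
  generalize ptAct ρ g v = w at hw
  induction hw using Submodule.span_induction with
  | mem x hx =>
    exact hS x m fun h => absurd (hN (Finset.mem_biUnion.2 ⟨x, hx, h⟩)) (by omega)
  | zero => exact map_zero _
  | add x y _ _ hx hy => rw [map_add, hx, hy, add_zero]
  | smul c x _ hx => rw [map_smul, hx, smul_zero]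

theorem deg_mem_filt {n : ℤ} {v : V} (hv : v ∈ filt ρ iT L n) (m : ℤ) : deg ρ iT L m v ∈ filt ρ iT L n := by
  show proj L (comap ρ iT) m v ∈ _
  rw [← proj_map]
  exact proj_mem_of_isStable (L.map iT) ρ
    (Groth.L16.Matsushima.isStable_of_pts ρ _ fun g w hw => ptAct_mem_filt ρ iT L hw g) hv m

variable [Smooth U.hom] (iU : U ⟶ G) [IsMonHom iU] (ha : Attracts (L.map iT) iU)

include ha in
/-- The component of top degree is invariant. -/
theorem deg_mem_fixed {n : ℤ} {v : V} (hv : v ∈ filt ρ iT L n) : deg ρ iT L n v ∈ ρ.fixedUnder iU := by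
  refine mem_fixedUnder_of_ptAct ρ iU fun x => eq_of_proj (L.map iT) ρ fun m => ?_
  have hp : deg ρ iT L n v ∈ part (L.map iT) ρ n := proj_mem L (comap ρ iT) n v
  obtain ⟨h1, h2⟩ := proj_ptAct_attracted ρ (L.map iT) iU ha hp x m
  rw [proj_of_mem _ ρ hp]
  rcases lt_trichotomy m n with h | h | h
  · rw [h1 h, if_neg h.ne']
  · rw [h2 h, if_pos h.symm]
  · rw [if_neg h.ne]
    exact deg_mem_filt ρ iT L hv n _ m h

variable [IsAffine U'.left] [LocallyOfFiniteType U'.hom] [IsAffine T.left] [Smooth T.hom] (iU' : U' ⟶ G)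
  [IsMonHom iU'] (ha' : Attracts (L.map iT).neg iU') (hd : Dense iU' iT iU)
  (hcomm : ∀ (X : Over (Spec (CommRingCat.of k))) (a b : X ⟶ T), a * b = b * a)

include ha' in
/-- Translates by the opposite subgroup only lower degrees. -/
theorem deg_ptAct_opposite {n : ℤ} {w : V} (hw : w ∈ part L (comap ρ iT) n) (x : VecGrp.pt k k ⟶ U') (m : ℤ) :
    (n < m → deg ρ iT L m (ptAct ρ (x ≫ iU') w) = 0) ∧
      (m = n → deg ρ iT L m (ptAct ρ (x ≫ iU') w) = w) := by
  have hw' : w ∈ part (L.map iT).neg ρ (-n) := by rw [part_neg, neg_neg]; exact hw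
  obtain ⟨h1, h2⟩ := proj_ptAct_attracted ρ (L.map iT).neg iU' ha' hw' x (-m)
  rw [proj_neg, neg_neg] at h1 h2
  exact ⟨fun h => h1 (by omega), fun h => h2 (by omega)⟩

include ha' hd hcomm in
/-- A homogeneous invariant vector has translates of at most its degree. -/
theorem mem_filt_of_fixed {n : ℤ} {v : V} (hv : v ∈ part L (comap ρ iT) n) (hf : v ∈ ρ.fixedUnder iU) :
    v ∈ filt ρ iT L n := by
  intro g m hm
  refine orbit_mem ρ hd (LinearMap.ker (deg ρ iT L m)) (fun x t y => ?_) g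
  rw [LinearMap.mem_ker, ptAct_mul, ptAct_mul, ptAct_of_fixed ρ iU hf y, ← ptAct_comap ρ iT]
  exact (deg_ptAct_opposite ρ iT L iU' ha' (ptAct_mem_part_torus hcomm L _ t hv) x m).1 hm

include ha' in
/-- The top component does not change under the opposite subgroup. -/
theorem deg_opposite_of_filt {n : ℤ} {v : V} (hv : v ∈ filt ρ iT L n) (x : VecGrp.pt k k ⟶ U') :
    deg ρ iT L n (ptAct ρ (x ≫ iU') v) = deg ρ iT L n v := by
  classical
  obtain ⟨S, hS, -⟩ := exists_support L (comap ρ iT) v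
  conv_lhs => rw [← sum_proj L (comap ρ iT) hS, map_sum, map_sum]
  have hj : ∀ j, deg ρ iT L n (ptAct ρ (x ≫ iU') (deg ρ iT L j v)) = if j = n then deg ρ iT L n v else 0 := by
    intro j
    rcases lt_trichotomy j n with h | h | h
    · rw [(deg_ptAct_opposite ρ iT L iU' ha' (proj_mem L _ j v) x n).1 h, if_neg h.ne]
    · rw [(deg_ptAct_opposite ρ iT L iU' ha' (proj_mem L _ j v) x n).2 h.symm, if_pos h, h]
    · rw [if_neg h.ne']
      have := hv 1 j h
      rw [ptAct_one] at this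
      rw [this, map_zero, map_zero]
  rw [Finset.sum_congr rfl fun j _ => hj j, Finset.sum_ite_eq']
  split_ifs with h
  · rfl
  · exact (hS _ h).symm

include ha in
/-- Without invariant vectors of negative degree the filtration starts at zero. -/
theorem filt_eq_bot
    (hpos : ∀ (n : ℤ) (w : V), w ∈ part L (comap ρ iT) n → w ∈ ρ.fixedUnder iU → w ≠ 0 → 0 ≤ n)
    {n : ℤ} (hn : n < 0) : filt ρ iT L n = ⊥ := by
  classical
  rw [Submodule.eq_bot_iff]
  intro v hv
  by_contra hv0
  obtain ⟨j, hj⟩ : ∃ j, deg ρ iT L j v ≠ 0 := by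
    by_contra h
    push Not at h
    exact hv0 (eq_of_proj L (comap ρ iT) fun j => (h j).trans (map_zero _).symm)
  let P : ℤ → Prop := fun j => ∃ g : VecGrp.pt k k ⟶ G, deg ρ iT L j (ptAct ρ g v) ≠ 0
  have hb : ∀ i, P i → i ≤ n := fun i ⟨g, hg⟩ => not_lt.1 fun h => hg (hv g i h)
  obtain ⟨M, ⟨g, hg⟩, hM⟩ := Int.exists_greatest_of_bdd (P := P) ⟨n, hb⟩ ⟨j, 1, by rwa [ptAct_one]⟩
  have hvM : v ∈ filt ρ iT L M := fun g' m hm => by
    by_contra h
    exact absurd (hM m ⟨g', h⟩) (by omega)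
  have h1 := hpos M _ (proj_mem L _ M _) (deg_mem_fixed ρ iT L iU ha (ptAct_mem_filt ρ iT L hvM g)) hg
  have := hb M ⟨g, hg⟩
  omega

end Filtration

section Mult

variable {A : Type u} [CommRing A] [Algebra k A] (ρA : VecGrp.GMod G A) (hρ : ρA.IsMult) (L : Cochar G)

include hρ in
theorem mul_mem_part {a b : ℤ} {x y : A} (hx : x ∈ part L ρA a) (hy : y ∈ part L ρA b) :
    x * y ∈ part L ρA (a + b) := by
  rw [mem_part, ← _root_.one_mul (1 : k[T;T⁻¹]), ← Algebra.TensorProduct.tmul_mul_tmul, (hρ _ L.pt).1,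
    (mem_part L ρA).1 hx, (mem_part L ρA).1 hy, Algebra.TensorProduct.tmul_mul_tmul, LaurentPolynomial.T_add]

include hρ in
theorem one_mem_part : (1 : A) ∈ part L ρA 0 := by
  rw [mem_part, LaurentPolynomial.T_zero, ← Algebra.TensorProduct.one_def]
  exact (hρ _ L.pt).2

include hρ in
theorem proj_mul {x y : A} {a b : ℤ} (hx : ∀ m, a < m → proj L ρA m x = 0) (hy : ∀ m, b < m → proj L ρA m y = 0)
    (m : ℤ) : (a + b < m → proj L ρA m (x * y) = 0) ∧
      (m = a + b → proj L ρA m (x * y) = proj L ρA a x * proj L ρA b y) := by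
  classical
  obtain ⟨S, hS, -⟩ := exists_support L ρA x
  obtain ⟨S', hS', -⟩ := exists_support L ρA y
  have hS₁ : ∀ i ∉ insert a S, proj L ρA i x = 0 := fun i hi => hS i fun h => hi (Finset.mem_insert_of_mem h)
  have hS₂ : ∀ i ∉ insert b S', proj L ρA i y = 0 := fun i hi => hS' i fun h => hi (Finset.mem_insert_of_mem h)
  have e : proj L ρA m (x * y) = ∑ i ∈ insert a S, ∑ j ∈ insert b S',
      if i + j = m then proj L ρA i x * proj L ρA j y else 0 := by
    conv_lhs => rw [← sum_proj L ρA hS₁, ← sum_proj L ρA hS₂, Finset.sum_mul_sum, map_sum]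
    simp only [map_sum]
    refine Finset.sum_congr rfl fun i _ => Finset.sum_congr rfl fun j _ => ?_
    exact proj_of_mem L ρA (mul_mem_part ρA hρ L (proj_mem L ρA i x) (proj_mem L ρA j y)) m
  have hz : ∀ i j, i + j = m → a + b ≤ m → (i, j) ≠ (a, b) → proj L ρA i x * proj L ρA j y = 0 := by
    intro i j hij hle hne
    by_cases hi : a < i
    · rw [hx i hi, zero_mul]
    · rw [hy j (by
        by_contra hj
        exact hne (Prod.ext (show i = a by omega) (show j = b by omega))), mul_zero]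
  refine ⟨fun h => ?_, fun h => ?_⟩
  · rw [e]
    refine Finset.sum_eq_zero fun i _ => Finset.sum_eq_zero fun j _ => ?_
    split_ifs with hij
    · refine hz i j hij h.le fun e' => ?_
      obtain ⟨rfl, rfl⟩ := Prod.mk.inj e'
      omega
    · rfl
  · rw [e, Finset.sum_eq_single_of_mem a (Finset.mem_insert_self a S),
      Finset.sum_eq_single_of_mem b (Finset.mem_insert_self b S'), if_pos h.symm]
    · intro j _ hj
      split_ifs with hij
      · exact hz a j hij h.ge fun e' => hj (Prod.mk.inj e').2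
      · rfl
    · intro i _ hi
      refine Finset.sum_eq_zero fun j _ => ?_
      split_ifs with hij
      · exact hz i j hij h.ge fun e' => hi (Prod.mk.inj e').1
      · rfl

include hρ in
theorem ptAct_one_elt (g : VecGrp.pt k k ⟶ G) : ptAct ρA g (1 : A) = 1 := by
  have h := (hρ k g).2
  rw [Algebra.TensorProduct.one_def] at h
  exact (congrArg (TensorProduct.lid k A) h).trans (by simp)

end Mult

section MultFilt

variable {A : Type u} [CommRing A] [Algebra k A] (ρA : VecGrp.GMod G A) (hρ : ρA.IsMult)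
  (iT : T ⟶ G) [IsMonHom iT] (L : Cochar T)

include hρ in
theorem one_mem_filt : (1 : A) ∈ filt ρA iT L 0 := fun g m hm => by
  rw [ptAct_one_elt ρA hρ, deg, ← proj_map, proj_of_mem _ ρA (one_mem_part ρA hρ _), if_neg hm.ne]

include hρ in
theorem deg_one (g : VecGrp.pt k k ⟶ G) : deg ρA iT L 0 (ptAct ρA g (1 : A)) = 1 := by
  rw [ptAct_one_elt ρA hρ, deg, ← proj_map, proj_of_mem _ ρA (one_mem_part ρA hρ _), if_pos rfl]

include hρ in
theorem mul_mem_filt {a b : ℤ} {x y : A} (hx : x ∈ filt ρA iT L a) (hy : y ∈ filt ρA iT L b) :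
    x * y ∈ filt ρA iT L (a + b) := fun g m hm => by
  rw [ptAct_map_mul ρA hρ]
  exact (proj_mul ρA hρ (L.map iT) (hx g) (hy g) m).1 hm

include hρ in
theorem deg_mul {a b : ℤ} {x y : A} (hx : x ∈ filt ρA iT L a) (hy : y ∈ filt ρA iT L b) (g : VecGrp.pt k k ⟶ G) :
    deg ρA iT L (a + b) (ptAct ρA g (x * y)) = deg ρA iT L a (ptAct ρA g x) * deg ρA iT L b (ptAct ρA g y) := by
  rw [ptAct_map_mul ρA hρ]
  exact (proj_mul ρA hρ (L.map iT) (hx g) (hy g) _).2 rfl

end MultFilt

end Groth.L16.Weights
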