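import Groth.Agent.L25.Observable.UnipFixed
import Mathlib.Algebra.Polynomial.Laurent
import Mathlib.LinearAlgebra.DirectSum.Finsupp

/-!
# The grading of a rational module by a one-parameter subgroup
-/

set_option autoImplicit false
set_option backward.isDefEq.respectTransparency.types false
set_option linter.unusedSectionVars false
set_option maxHeartbeats 1000000

universe u v

open CategoryTheory MonoidalCategory CartesianMonoidalCategory MonObj AlgebraicGeometry
open scoped TensorProduct LaurentPolynomial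
open Groth.L25.Observable

noncomputable section

namespace Groth.L16.Weights

variable {k : Type u} [Field k] {G : Over (Spec (CommRingCat.of k))} [GrpObj G]

/-- The comultiplication of Laurent polynomials. -/
def laurComul (k : Type u) [Field k] : k[T;T⁻¹] →ₐ[k] k[T;T⁻¹] ⊗[k] k[T;T⁻¹] :=
  AddMonoidAlgebra.lift k _ ℤ
    { toFun := fun n => LaurentPolynomial.T n.toAdd ⊗ₜ[k] LaurentPolynomial.T n.toAdd
      map_one' := by rw [toAdd_one, LaurentPolynomial.T_zero]; rfl
      map_mul' := fun a b => by rw [toAdd_mul, LaurentPolynomial.T_add, Algebra.TensorProduct.tmul_mul_tmul] }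

theorem laurComul_T (n : ℤ) :
    laurComul k (LaurentPolynomial.T n) = LaurentPolynomial.T n ⊗ₜ[k] LaurentPolynomial.T n := by
  rw [laurComul, LaurentPolynomial.T, AddMonoidAlgebra.lift_single, one_smul]
  rfl

/-- Evaluation of a Laurent polynomial at one. -/
def laurOne (k : Type u) [Field k] : k[T;T⁻¹] →ₐ[k] k := AddMonoidAlgebra.lift k _ ℤ 1

theorem laurOne_T (n : ℤ) : laurOne k (LaurentPolynomial.T n) = 1 := by
  rw [laurOne, LaurentPolynomial.T, AddMonoidAlgebra.lift_single, one_smul]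
  rfl

/-- A one-parameter subgroup as a point over Laurent polynomials. -/
structure Cochar (G : Over (Spec (CommRingCat.of k))) [GrpObj G] where
  /-- the point -/
  pt : VecGrp.pt k k[T;T⁻¹] ⟶ G
  one : VecGrp.ptMap (laurOne k) ≫ pt = 1
  mul : VecGrp.ptMap (laurComul k) ≫ pt =
    (VecGrp.ptMap Algebra.TensorProduct.includeLeft ≫ pt) * (VecGrp.ptMap Algebra.TensorProduct.includeRight ≫ pt)

theorem ptMap_comp {B B' B'' : Type u} [CommRing B] [Algebra k B] [CommRing B'] [Algebra k B'] [CommRing B'']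
    [Algebra k B''] (f : B' →ₐ[k] B'') (g : B →ₐ[k] B') :
    VecGrp.ptMap f ≫ VecGrp.ptMap g = VecGrp.ptMap (f.comp g) :=
  Over.OverMorphism.ext (Spec.map_comp _ _).symm

theorem ptMap_id (B : Type u) [CommRing B] [Algebra k B] : VecGrp.ptMap (AlgHom.id k B) = 𝟙 _ :=
  Over.OverMorphism.ext (Spec.map_id _)

variable (L : Cochar G) {V : Type u} [AddCommGroup V] [Module k V] (ρ : VecGrp.GMod G V)

/-- The coefficient of an element of `C[T, T⁻¹] ⊗ V`. -/
def cf {C : Type u} [CommRing C] [Algebra k C] (n : ℤ) : C[T;T⁻¹] ⊗[k] V →ₗ[k] C ⊗[k] V :=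
  (((Finsupp.lapply n).comp (AddMonoidAlgebra.coeffLinearEquiv k).toLinearMap : C[T;T⁻¹] →ₗ[k] C)).rTensor V

theorem cf_tmul {C : Type u} [CommRing C] [Algebra k C] (n : ℤ) (f : C[T;T⁻¹]) (v : V) :
    cf n (f ⊗ₜ[k] v) = f.coeff n ⊗ₜ[k] v := rfl

/-- The component of degree `n`. -/
def proj (n : ℤ) : V →ₗ[k] V :=
  (TensorProduct.lid k V).toLinearMap ∘ₗ cf n ∘ₗ ((ρ.ρ k[T;T⁻¹] L.pt).toLinearMap.restrictScalars k) ∘ₗ
    TensorProduct.mk k k[T;T⁻¹] V 1

/-- The part of degree `n`. -/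
def part (n : ℤ) : Submodule k V where
  carrier := {v | ρ.ρ k[T;T⁻¹] L.pt ((1 : k[T;T⁻¹]) ⊗ₜ[k] v) = LaurentPolynomial.T n ⊗ₜ[k] v}
  add_mem' {x y} (hx : _ = _) (hy : _ = _) := by
    show _ = _
    rw [TensorProduct.tmul_add, map_add, hx, hy, TensorProduct.tmul_add]
  zero_mem' := by show _ = _; simp
  smul_mem' c {x} (hx : _ = _) := by
    show _ = _
    rw [TensorProduct.tmul_smul, ← algebraMap_smul k[T;T⁻¹] c, map_smul, hx, TensorProduct.tmul_smul,
      algebraMap_smul]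

theorem mem_part {n : ℤ} {v : V} :
    v ∈ part L ρ n ↔ ρ.ρ k[T;T⁻¹] L.pt ((1 : k[T;T⁻¹]) ⊗ₜ[k] v) = LaurentPolynomial.T n ⊗ₜ[k] v := Iff.rfl

theorem exists_support (v : V) : ∃ S : Finset ℤ, (∀ n ∉ S, proj L ρ n v = 0) ∧
    ρ.ρ k[T;T⁻¹] L.pt ((1 : k[T;T⁻¹]) ⊗ₜ[k] v) = ∑ n ∈ S, LaurentPolynomial.T n ⊗ₜ[k] proj L ρ n v := by
  classical
  have key : ∀ z : k[T;T⁻¹] ⊗[k] V, ∃ S : Finset ℤ, (∀ n ∉ S, TensorProduct.lid k V (cf n z) = 0) ∧
      z = ∑ n ∈ S, LaurentPolynomial.T n ⊗ₜ[k] TensorProduct.lid k V (cf n z) := by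
    intro z
    let e : k[T;T⁻¹] ⊗[k] V ≃ₗ[k] ℤ →₀ V :=
      (AddMonoidAlgebra.coeffLinearEquiv k).rTensor V ≪≫ₗ TensorProduct.finsuppScalarLeft k V ℤ
    have hcf : ∀ (n : ℤ) (w : k[T;T⁻¹] ⊗[k] V), TensorProduct.lid k V (cf n w) = e w n := by
      intro n w
      induction w using TensorProduct.induction_on with
      | zero => simp
      | add p q hp hq => simp only [map_add, Finsupp.add_apply, hp, hq]
      | tmul f a =>
        rw [cf_tmul, TensorProduct.lid_tmul]
        exact (TensorProduct.finsuppScalarLeft_apply_tmul_apply f.coeff a n).symm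
    have hsym : ∀ (n : ℤ) (a : V), e (LaurentPolynomial.T n ⊗ₜ[k] a) = Finsupp.single n a := by
      intro n a
      ext m
      rw [← hcf, cf_tmul, TensorProduct.lid_tmul, LaurentPolynomial.T_apply, Finsupp.single_apply]
      split_ifs <;> simp
    refine ⟨(e z).support, fun n hn => by rw [hcf]; exact Finsupp.notMem_support_iff.1 hn, e.injective ?_⟩
    rw [map_sum]
    simp only [hsym, hcf]
    exact (Finsupp.sum_single (e z)).symm
  exact key _

theorem sum_proj {v : V} {S : Finset ℤ} (hS : ∀ n ∉ S, proj L ρ n v = 0) : ∑ n ∈ S, proj L ρ n v = v := by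
  classical
  obtain ⟨S₀, hS₀, h⟩ := exists_support L ρ v
  have e : ∑ n ∈ S, proj L ρ n v = ∑ n ∈ S₀, proj L ρ n v := by
    rw [Finset.sum_subset (Finset.subset_union_left : S ⊆ S ∪ S₀) fun n _ hn => hS n hn,
      ← Finset.sum_subset (Finset.subset_union_right : S₀ ⊆ S ∪ S₀) fun n _ hn => hS₀ n hn]
  have h1 := congrArg (VecGrp.Wmap (laurOne k)) h
  rw [ρ.naturality, L.one, map_sum] at h1
  simp only [map_one, VecGrp.Wmap_tmul, laurOne_T, LinearEquiv.coe_one, id_eq] at h1
  have h2 := congrArg (TensorProduct.lid k V) h1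
  rw [map_sum] at h2
  simp only [TensorProduct.lid_tmul, one_smul] at h2
  rw [e, ← h2]

theorem proj_mem (n : ℤ) (v : V) : proj L ρ n v ∈ part L ρ n := by
  classical
  obtain ⟨S, hS, h⟩ := exists_support L ρ v
  by_cases hn : n ∈ S
  swap
  · rw [hS n hn]; exact zero_mem _
  let R2 := k[T;T⁻¹] ⊗[k] k[T;T⁻¹]
  let iL : k[T;T⁻¹] →ₐ[k] R2 := Algebra.TensorProduct.includeLeft
  let iR : k[T;T⁻¹] →ₐ[k] R2 := Algebra.TensorProduct.includeRight
  -- two descriptions of the square of the point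
  have h1 := congrArg (VecGrp.Wmap (laurComul k)) h
  rw [ρ.naturality, VecGrp.Wmap_tmul, map_one, L.mul, map_mul, LinearEquiv.mul_apply] at h1
  have hR : ρ.ρ R2 (VecGrp.ptMap iR ≫ L.pt) ((1 : R2) ⊗ₜ[k] v) =
      ∑ j ∈ S, (1 ⊗ₜ[k] LaurentPolynomial.T j : R2) ⊗ₜ[k] proj L ρ j v := by
    have := congrArg (VecGrp.Wmap iR) h
    rw [ρ.naturality, VecGrp.Wmap_tmul, map_one, map_sum] at this
    exact this
  have hL : ∀ w : V, ρ.ρ R2 (VecGrp.ptMap iL ≫ L.pt) ((1 : R2) ⊗ₜ[k] w) =
      VecGrp.Wmap iL (ρ.ρ k[T;T⁻¹] L.pt ((1 : k[T;T⁻¹]) ⊗ₜ[k] w)) := fun w => by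
    rw [ρ.naturality, VecGrp.Wmap_tmul, map_one]
  rw [hR, map_sum, map_sum] at h1
  simp only [VecGrp.Wmap_tmul, laurComul_T] at h1
  have hsm : ∀ j ∈ S, ρ.ρ R2 (VecGrp.ptMap iL ≫ L.pt) ((1 ⊗ₜ[k] LaurentPolynomial.T j : R2) ⊗ₜ[k] proj L ρ j v) =
      (1 ⊗ₜ[k] LaurentPolynomial.T j : R2) • VecGrp.Wmap iL (ρ.ρ k[T;T⁻¹] L.pt ((1 : k[T;T⁻¹]) ⊗ₜ[k] proj L ρ j v)) := by
    intro j _
    rw [← hL, ← map_smul, TensorProduct.smul_tmul', smul_eq_mul, _root_.mul_one]
  rw [Finset.sum_congr rfl hsm] at h1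
  -- extract the coefficient of `T n` in the right factor
  let κ : R2 →ₗ[k] k[T;T⁻¹] := (TensorProduct.rid k _).toLinearMap ∘ₗ
    ((Finsupp.lapply n).comp (AddMonoidAlgebra.coeffLinearEquiv k).toLinearMap : k[T;T⁻¹] →ₗ[k] k).lTensor k[T;T⁻¹]
  have hκ : ∀ f g : k[T;T⁻¹], κ (f ⊗ₜ[k] g) = g.coeff n • f := fun f g => rfl
  have hκs : ∀ (j : ℤ) (z : k[T;T⁻¹] ⊗[k] V), κ.rTensor V ((1 ⊗ₜ[k] LaurentPolynomial.T j : R2) • VecGrp.Wmap iL z) =
      (if j = n then (1 : k) else 0) • z := by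
    intro j z
    induction z using TensorProduct.induction_on with
    | zero => simp
    | add p q hp hq => simp only [map_add, smul_add, hp, hq]
    | tmul f a =>
      rw [VecGrp.Wmap_tmul, TensorProduct.smul_tmul', LinearMap.rTensor_tmul, TensorProduct.smul_tmul']
      show κ ((1 ⊗ₜ[k] LaurentPolynomial.T j : R2) * (f ⊗ₜ[k] 1)) ⊗ₜ[k] a = _
      rw [Algebra.TensorProduct.tmul_mul_tmul, _root_.one_mul, _root_.mul_one, hκ, LaurentPolynomial.T_apply]
  have h2 := congrArg (κ.rTensor V) h1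
  rw [map_sum, map_sum] at h2
  simp only [hκs, LinearMap.rTensor_tmul, hκ, LaurentPolynomial.T_apply, ite_smul, one_smul, zero_smul,
    TensorProduct.ite_tmul, TensorProduct.zero_tmul, Finset.sum_ite_eq', if_pos hn] at h2
  exact (mem_part L ρ).2 h2

theorem proj_of_mem {n : ℤ} {v : V} (hv : v ∈ part L ρ n) (m : ℤ) : proj L ρ m v = if n = m then v else 0 := by
  show TensorProduct.lid k V (cf m (ρ.ρ k[T;T⁻¹] L.pt ((1 : k[T;T⁻¹]) ⊗ₜ[k] v))) = _
  rw [(mem_part L ρ).1 hv, cf_tmul, TensorProduct.lid_tmul, LaurentPolynomial.T_apply]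
  split_ifs <;> simp

theorem proj_proj (m n : ℤ) (v : V) : proj L ρ m (proj L ρ n v) = if n = m then proj L ρ n v else 0 :=
  proj_of_mem L ρ (proj_mem L ρ n v) m

theorem eq_of_proj {v w : V} (h : ∀ n, proj L ρ n v = proj L ρ n w) : v = w := by
  classical
  obtain ⟨S, hS, -⟩ := exists_support L ρ v
  obtain ⟨S', hS', -⟩ := exists_support L ρ w
  rw [← sum_proj L ρ (S := S ∪ S') (v := v) fun n hn => hS n fun h' => hn (Finset.mem_union_left _ h'),
    ← sum_proj L ρ (S := S ∪ S') (v := w) fun n hn => hS' n fun h' => hn (Finset.mem_union_right _ h')]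
  exact Finset.sum_congr rfl fun n _ => h n

/-- The opposite one-parameter subgroup. -/
def Cochar.neg : Cochar G where
  pt := VecGrp.ptMap (LaurentPolynomial.invert (R := k)).toAlgHom ≫ L.pt
  one := by
    rw [← Category.assoc]
    have : VecGrp.ptMap (laurOne k) ≫ VecGrp.ptMap (LaurentPolynomial.invert (R := k)).toAlgHom =
        VecGrp.ptMap (laurOne k) := by
      refine (ptMap_comp _ _).trans (congrArg VecGrp.ptMap ?_)
      refine AddMonoidAlgebra.algHom_ext (fun n => ?_) (Subsingleton.elim _ _)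
      show laurOne k (LaurentPolynomial.invert (LaurentPolynomial.T n)) = laurOne k (LaurentPolynomial.T n)
      rw [LaurentPolynomial.invert_T, laurOne_T, laurOne_T]
    rw [this, L.one]
  mul := by
    have hcomp : ∀ {B : Type u} [CommRing B] [Algebra k B] (f : k[T;T⁻¹] →ₐ[k] B),
        VecGrp.ptMap f ≫ VecGrp.ptMap (LaurentPolynomial.invert (R := k)).toAlgHom =
          VecGrp.ptMap (f.comp (LaurentPolynomial.invert (R := k)).toAlgHom) :=
      fun f => ptMap_comp _ _
    rw [← Category.assoc, ← Category.assoc, ← Category.assoc, hcomp, hcomp, hcomp]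
    have e : (laurComul k).comp (LaurentPolynomial.invert (R := k)).toAlgHom =
        (Algebra.TensorProduct.map (LaurentPolynomial.invert (R := k)).toAlgHom
          (LaurentPolynomial.invert (R := k)).toAlgHom).comp (laurComul k) := by
      refine AddMonoidAlgebra.algHom_ext (fun n => ?_) (Subsingleton.elim _ _)
      show laurComul k (LaurentPolynomial.invert (LaurentPolynomial.T n)) =
        Algebra.TensorProduct.map _ _ (laurComul k (LaurentPolynomial.T n))
      rw [LaurentPolynomial.invert_T, laurComul_T, laurComul_T, Algebra.TensorProduct.map_tmul]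
      simp [LaurentPolynomial.invert_T]
    rw [e, ← ptMap_comp, Category.assoc, L.mul, MonObj.comp_mul, ← Category.assoc,
      ← Category.assoc, ptMap_comp, ptMap_comp,
      Algebra.TensorProduct.map_comp_includeLeft, Algebra.TensorProduct.map_comp_includeRight]

theorem part_neg (n : ℤ) : part L.neg ρ n = part L ρ (-n) := by
  have key : ∀ (L' : Cochar G) (v : V) (n : ℤ), v ∈ part L' ρ n →
      ρ.ρ k[T;T⁻¹] (VecGrp.ptMap (LaurentPolynomial.invert (R := k)).toAlgHom ≫ L'.pt) ((1 : k[T;T⁻¹]) ⊗ₜ[k] v) =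
        LaurentPolynomial.T (-n) ⊗ₜ[k] v := fun L' v n hv => by
    have h := congrArg (VecGrp.Wmap (LaurentPolynomial.invert (R := k)).toAlgHom) ((mem_part L' ρ).1 hv)
    rw [ρ.naturality, VecGrp.Wmap_tmul, VecGrp.Wmap_tmul, map_one] at h
    rw [h]
    simp [LaurentPolynomial.invert_T]
  ext v
  constructor
  · intro hv
    have h := key L.neg v n hv
    rw [mem_part]
    convert h using 3
    show L.pt = _ ≫ _ ≫ L.pt
    rw [← Category.assoc, ptMap_comp]
    have : (LaurentPolynomial.invert (R := k)).toAlgHom.comp (LaurentPolynomial.invert (R := k)).toAlgHom =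
        AlgHom.id k _ := AlgHom.ext fun x => LaurentPolynomial.involutive_invert x
    rw [this, ptMap_id, Category.id_comp]
  · intro hv
    rw [mem_part]
    simpa [Cochar.neg] using key L v (-n) hv

end Groth.L16.Weights
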