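import Groth.Agent.L16.Weights.Attract
import Groth.Agent.L14.Chev.Cell.Borel

/-!
# The one-parameter subgroup of a functional on the characters, and the root groups it contracts
-/

set_option autoImplicit false
set_option backward.isDefEq.respectTransparency.types false
set_option linter.unusedSectionVars false
set_option linter.style.haveILetI false
set_option maxHeartbeats 1000000

universe u

open CategoryTheory MonoidalCategory CartesianMonoidalCategory MonObj AlgebraicGeometry
open Groth.L14.RankOne Groth.L14.Chart Groth.L14.Chev.Cell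
open scoped TensorProduct LaurentPolynomial

noncomputable section

namespace Groth.L16.Weights

variable {k : Type u} [Field k]

/-- The base of a field as a test scheme. -/
abbrev base (k : Type u) [Field k] : Spec (CommRingCat.of k) ⟶ Spec (CommRingCat.of k) := 𝟙 _

/-- The two descriptions of an affine test scheme. -/
def sg (C : Type u) [CommRing C] [Algebra k C] : VecGrp.pt k C ⟶ Sp (base k) C :=
  Over.homMk (𝟙 _) ((Category.id_comp _).trans (Category.comp_id _))

/-- The inverse identification. -/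
def sg' (C : Type u) [CommRing C] [Algebra k C] : Sp (base k) C ⟶ VecGrp.pt k C :=
  Over.homMk (𝟙 _) ((Category.id_comp _).trans (Category.comp_id _).symm)

theorem sg_sg' (C : Type u) [CommRing C] [Algebra k C] : sg (k := k) C ≫ sg' C = 𝟙 _ :=
  Over.OverMorphism.ext (Category.id_comp _)

theorem ptMap_sg {C C' : Type u} [CommRing C] [Algebra k C] [CommRing C'] [Algebra k C'] (f : C →ₐ[k] C') :
    VecGrp.ptMap f ≫ sg C = sg C' ≫ mor (base k) f :=
  Over.OverMorphism.ext ((Category.comp_id _).trans (Category.id_comp _).symm)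

variable {G : Over (Spec (CommRingCat.of k))} [GrpObj G] (D : Red.SplitRed G)

/-- The one-parameter subgroup of a functional on the characters of the split torus. -/
def cochar (lam : D.M →+ ℤ) : Cochar G where
  pt := sg k[T;T⁻¹] ≫ tpt D (base k) (chiLam k lam) ≫ D.i
  one := by
    haveI := isMonHom_i (D := D)
    rw [reassoc_of% (ptMap_sg (laurOne k)), reassoc_of% (mor_tpt (base k) (laurOne k) (chiLam k lam)),
      show ((laurOne k : k[T;T⁻¹] →* k).comp (chiLam k lam)) = 1 from MonoidHom.ext fun m => laurOne_T _,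
      tpt_one, MonObj.one_comp, MonObj.comp_one]
  mul := by
    haveI := isMonHom_i (D := D)
    rw [reassoc_of% (ptMap_sg (laurComul k)), reassoc_of% (ptMap_sg
      (Algebra.TensorProduct.includeLeft (R := k) (S := k) (A := k[T;T⁻¹]) (B := k[T;T⁻¹]))),
      reassoc_of% (ptMap_sg (Algebra.TensorProduct.includeRight (R := k) (A := k[T;T⁻¹]) (B := k[T;T⁻¹]))),
      ← Category.assoc (mor (base k) _), ← Category.assoc (mor (base k) _), ← Category.assoc (mor (base k) _),
      mor_tpt, mor_tpt, mor_tpt, ← MonObj.comp_mul, ← MonObj.mul_comp, ← tpt_mul]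
    congr 2
    refine congrArg (tpt D _) (MonoidHom.ext fun m => ?_)
    refine (laurComul_T _).trans ?_
    show _ = (LaurentPolynomial.T _ ⊗ₜ[k] (1 : k[T;T⁻¹])) * ((1 : k[T;T⁻¹]) ⊗ₜ[k] LaurentPolynomial.T _)
    rw [Algebra.TensorProduct.tmul_mul_tmul, _root_.one_mul, _root_.mul_one]

theorem scal_pt (lam : D.M →+ ℤ) (C : Type u) [CommRing C] [Algebra k C] :
    VecGrp.ptMap (scal C) ≫ (cochar D lam).pt = sg C[T;T⁻¹] ≫ tpt D (base k) (chiLam C lam) ≫ D.i := by
  show VecGrp.ptMap (scal C) ≫ sg k[T;T⁻¹] ≫ tpt D (base k) (chiLam k lam) ≫ D.i = _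
  rw [reassoc_of% (ptMap_sg (scal (k := k) C)), reassoc_of% (mor_tpt (base k) (scal (k := k) C) (chiLam k lam))]
  congr 2
  exact congrArg (tpt D _) (MonoidHom.ext fun m => scal_T C _)

/-- A product of root groups on which the functional is positive is contracted. -/
theorem attracts_cochar {U : Over (Spec (CommRingCat.of k))} [GrpObj U] (i : U ⟶ G) [IsMonHom i] [Mono i] {m : ℕ}
    (e : Fin m → D.idx) (he : Function.Injective e) (ψ : RedSub.pow (Red.Ga (Spec (CommRingCat.of k))) m ≅ U)
    (hψ : ψ.hom ≫ i = RedSub.prodMap (Red.Ga (Spec (CommRingCat.of k))) m (fun l => D.u (e l)))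
    (lam : D.M →+ ℤ) (hlam : ∀ l, 0 < lam (D.P.root (e l))) : Attracts (cochar D lam) i := by
  haveI : ∀ c, IsMonHom (D.u c) := fun c => (D.rootHom c).1
  haveI := isMonHom_i (D := D)
  intro C _ _ γ
  let p : Sp (base k) C ⟶ RedSub.pow (Red.Ga (Spec (CommRingCat.of k))) m := sg' C ≫ γ ≫ ψ.inv
  let z : D.idx → C := coordsOf e fun l => gv (p ≫ Groth.L14.Chev.Cell.proj _ m l)
  have hp : sg C ≫ rootProd (base k) D.u (List.ofFn e) z = γ ≫ i := by
    rw [← ofFn_prod_eq_rootProd (base k) he, ← comp_prodMap, ← hψ]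
    show sg C ≫ (sg' C ≫ γ ≫ ψ.inv) ≫ ψ.hom ≫ i = _
    simp only [Category.assoc, Iso.inv_hom_id_assoc]
    rw [← Category.assoc, sg_sg', Category.id_comp]
  let δ' : Sp (base k) (Polynomial C) ⟶ RedSub.pow (Red.Ga (Spec (CommRingCat.of k))) m :=
    tup m fun l => gp (base k) (grade lam z (e l))
  have hδ' : δ' ≫ ψ.hom ≫ i = rootProd (base k) D.u (List.ofFn e) (grade lam z) := by
    rw [hψ, comp_prodMap, rootProd_ofFn]
    simp only [δ', tup_proj]
  refine ⟨sg (Polynomial C) ≫ δ' ≫ ψ.hom, ?_, ?_⟩
  · simp only [Category.assoc]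
    rw [hδ', reassoc_of% (ptMap_sg (inLaur (k := k) C)), mor_rootProd, scal_pt, ← hp,
      reassoc_of% (ptMap_sg (const (k := k) C)), mor_rootProd, ← GrpObj.comp_inv, ← MonObj.comp_mul,
      ← MonObj.comp_mul]
    refine congrArg (sg C[T;T⁻¹] ≫ ·) ?_
    rw [conj_rootProd (base k) D.rootHom]
    refine congrArg List.prod (List.map_congr_left fun c hc => ?_)
    obtain ⟨l, rfl⟩ := List.mem_ofFn.1 hc
    refine congrArg (fun a => gp (base k) a ≫ D.u (e l)) ?_
    show toLau (R := k) (grade lam z (e l)) = _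
    rw [toLau_grade, Int.natAbs_of_nonneg (hlam l).le]
    exact mul_comm _ _
  · rw [← cancel_mono i]
    simp only [Category.assoc]
    rw [hδ', MonObj.one_comp, reassoc_of% (ptMap_sg (atZero (k := k) C)), mor_rootProd, rootProd_eq_one]
    · exact MonObj.comp_one _
    · intro c hc
      obtain ⟨l, rfl⟩ := List.mem_ofFn.1 hc
      exact evalAt_zero_grade (R := k) lam z (e l) (hlam l).ne'

end Groth.L16.Weights
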