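import Groth.Agent.L16.Weights.Finite
import Groth.Agent.L16.Matsushima.PolyAct
import Groth.Agent.L16.Weights.Regular

/-!
# Gradings by one-parameter subgroups of a commutative subgroup
-/

set_option autoImplicit false
set_option backward.isDefEq.respectTransparency.types false
set_option linter.unusedSectionVars false
set_option linter.style.haveILetI false
set_option maxHeartbeats 1000000

universe u

open CategoryTheory MonoidalCategory CartesianMonoidalCategory MonObj AlgebraicGeometry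
open scoped TensorProduct LaurentPolynomial
open Groth.L25.Observable

noncomputable section

namespace Groth.L16.Weights

variable {k : Type u} [Field k] {G T : Over (Spec (CommRingCat.of k))} [GrpObj G] [GrpObj T]
  {V : Type u} [AddCommGroup V] [Module k V]

/-- The restriction of a module along a homomorphism. -/
def comap (ρ : VecGrp.GMod G V) (i : T ⟶ G) [IsMonHom i] : VecGrp.GMod T V where
  ρ B _ _ := (ρ.ρ B).comp (MonoidHom.mk' (fun g => g ≫ i) fun g g' => MonObj.mul_comp g g' i)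
  naturality φ g x := by
    show VecGrp.Wmap φ (ρ.ρ _ (g ≫ i) x) = ρ.ρ _ ((VecGrp.ptMap φ ≫ g) ≫ i) _
    rw [ρ.naturality, Category.assoc]

theorem comap_apply (ρ : VecGrp.GMod G V) (i : T ⟶ G) [IsMonHom i] {B : Type u} [CommRing B] [Algebra k B]
    (g : VecGrp.pt k B ⟶ T) : (comap ρ i).ρ B g = ρ.ρ B (g ≫ i) := rfl

theorem part_map (ρ : VecGrp.GMod G V) (i : T ⟶ G) [IsMonHom i] (L : Cochar T) (n : ℤ) :
    part (L.map i) ρ n = part L (comap ρ i) n := rfl

theorem proj_map (ρ : VecGrp.GMod G V) (i : T ⟶ G) [IsMonHom i] (L : Cochar T) (n : ℤ) :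
    proj (L.map i) ρ n = proj L (comap ρ i) n := rfl

section Neg

variable (L : Cochar G) (ρ : VecGrp.GMod G V)

theorem proj_neg (n : ℤ) (v : V) : proj L.neg ρ n v = proj L ρ (-n) v := by
  classical
  obtain ⟨S, hS, -⟩ := exists_support L ρ v
  conv_lhs => rw [← sum_proj L ρ hS, map_sum]
  have hj : ∀ j, proj L.neg ρ n (proj L ρ j v) = if j = -n then proj L ρ (-n) v else 0 := fun j => by
    have h : proj L ρ j v ∈ part L.neg ρ (-j) := by rw [part_neg, neg_neg]; exact proj_mem L ρ j v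
    rw [proj_of_mem _ _ h]
    by_cases hjn : j = -n
    · subst hjn; rw [if_pos (neg_neg n), if_pos rfl]
    · rw [if_neg (fun e => hjn (by omega)), if_neg hjn]
  rw [Finset.sum_congr rfl fun j _ => hj j, Finset.sum_ite_eq']
  split_ifs with h
  · rfl
  · exact (hS _ h).symm

end Neg

section Pts

variable [IsAlgClosed k] (ρ : VecGrp.GMod G V)

theorem ptAct_comap (i : T ⟶ G) [IsMonHom i] (t : VecGrp.pt k k ⟶ T) (v : V) :
    ptAct (comap ρ i) t v = ptAct ρ (t ≫ i) v := rfl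

/-- A point commuting with the one-parameter subgroup preserves the parts. -/
theorem ptAct_mem_part (L : Cochar G) (g : VecGrp.pt k k ⟶ G)
    (hg : (VecGrp.ptMap (Algebra.ofId k k[T;T⁻¹]) ≫ g) * L.pt = L.pt * (VecGrp.ptMap (Algebra.ofId k k[T;T⁻¹]) ≫ g))
    {n : ℤ} {v : V} (hv : v ∈ part L ρ n) : ptAct ρ g v ∈ part L ρ n := by
  have h1 : ρ.ρ k[T;T⁻¹] (VecGrp.ptMap (Algebra.ofId k k[T;T⁻¹]) ≫ g) ((1 : k[T;T⁻¹]) ⊗ₜ[k] v) =
      (1 : k[T;T⁻¹]) ⊗ₜ[k] ptAct ρ g v := by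
    have h := congrArg (VecGrp.Wmap (Algebra.ofId k k[T;T⁻¹])) (ptAct_spec ρ g v)
    rwa [ρ.naturality, VecGrp.Wmap_tmul, VecGrp.Wmap_tmul, map_one] at h
  have hs : ∀ w : V, (LaurentPolynomial.T n ⊗ₜ[k] w : k[T;T⁻¹] ⊗[k] V) =
      (LaurentPolynomial.T n : k[T;T⁻¹]) • ((1 : k[T;T⁻¹]) ⊗ₜ[k] w) := fun w => by
    rw [TensorProduct.smul_tmul', smul_eq_mul, _root_.mul_one]
  rw [mem_part, ← h1, ← LinearEquiv.mul_apply, ← map_mul, ← hg, map_mul, LinearEquiv.mul_apply,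
    (mem_part L ρ).1 hv, hs v, map_smul, h1, ← hs]

theorem proj_ptAct (L : Cochar G) (g : VecGrp.pt k k ⟶ G)
    (hg : (VecGrp.ptMap (Algebra.ofId k k[T;T⁻¹]) ≫ g) * L.pt = L.pt * (VecGrp.ptMap (Algebra.ofId k k[T;T⁻¹]) ≫ g))
    (n : ℤ) (v : V) : proj L ρ n (ptAct ρ g v) = ptAct ρ g (proj L ρ n v) := by
  classical
  obtain ⟨S, hS, -⟩ := exists_support L ρ v
  conv_lhs => rw [← sum_proj L ρ hS, map_sum, map_sum]
  have hj : ∀ j, proj L ρ n (ptAct ρ g (proj L ρ j v)) = if j = n then ptAct ρ g (proj L ρ n v) else 0 := fun j => by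
    rw [proj_of_mem L ρ (ptAct_mem_part ρ L g hg (proj_mem L ρ j v))]
    split_ifs with hjn
    · rw [hjn]
    · rfl
  rw [Finset.sum_congr rfl fun j _ => hj j, Finset.sum_ite_eq']
  split_ifs with h
  · rfl
  · rw [hS _ h, map_zero]

end Pts

section Torus

variable [IsAlgClosed k] (hcomm : ∀ (X : Over (Spec (CommRingCat.of k))) (a b : X ⟶ T), a * b = b * a)
  (L L' : Cochar T) (ρ : VecGrp.GMod T V)

include hcomm in
theorem ptAct_mem_part_torus (t : VecGrp.pt k k ⟶ T) {n : ℤ} {v : V} (hv : v ∈ part L ρ n) :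
    ptAct ρ t v ∈ part L ρ n :=
  ptAct_mem_part ρ L t (hcomm _ _ _) hv

include hcomm in
theorem proj_ptAct_torus (t : VecGrp.pt k k ⟶ T) (n : ℤ) (v : V) :
    proj L ρ n (ptAct ρ t v) = ptAct ρ t (proj L ρ n v) :=
  proj_ptAct ρ L t (hcomm _ _ _) n v

variable [IsAffine T.left] [Smooth T.hom]

include hcomm in
/-- A second one-parameter subgroup preserves the parts of the first. -/
theorem proj_mem_part {n : ℤ} {v : V} (hv : v ∈ part L ρ n) (m : ℤ) : proj L' ρ m v ∈ part L ρ n :=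
  proj_mem_of_isStable L' ρ
    (Groth.L16.Matsushima.isStable_of_pts ρ _ fun t _ hw => ptAct_mem_part_torus hcomm L ρ t hw) hv m

/-- A subspace stable under the rational points of the torus is stable under the projections. -/
theorem proj_mem_of_pts {W : Submodule k V} (hW : ∀ (t : VecGrp.pt k k ⟶ T), ∀ w ∈ W, ptAct ρ t w ∈ W) {w : V}
    (hw : w ∈ W) (m : ℤ) : proj L ρ m w ∈ W :=
  proj_mem_of_isStable L ρ (Groth.L16.Matsushima.isStable_of_pts ρ W hW) hw m

end Torus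

section Normal

variable [IsAlgClosed k] {U : Over (Spec (CommRingCat.of k))} [GrpObj U] [IsAffine U.left] [Smooth U.hom]
  (ρ : VecGrp.GMod G V) (iU : U ⟶ G) (iT : T ⟶ G) [IsMonHom iT]

theorem ptAct_of_fixed {v : V} (hv : v ∈ ρ.fixedUnder iU) (x : VecGrp.pt k k ⟶ U) : ptAct ρ (x ≫ iU) v = v :=
  (congrArg (TensorProduct.lid k V) (hv k x)).trans (by simp)

theorem mem_fixedUnder_of_ptAct {v : V} (hv : ∀ x : VecGrp.pt k k ⟶ U, ptAct ρ (x ≫ iU) v = v) :
    v ∈ ρ.fixedUnder iU :=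
  mem_fixedUnder_of_pts' iU ρ v fun x => by rw [ptAct_spec, hv x]

/-- The invariants of a normalized subgroup are stable. -/
theorem ptAct_mem_fixed
    (hnorm : ∀ (t : VecGrp.pt k k ⟶ T) (x : VecGrp.pt k k ⟶ U), ∃ y : VecGrp.pt k k ⟶ U,
      (t ≫ iT) * (x ≫ iU) * (t ≫ iT)⁻¹ = y ≫ iU)
    (t : VecGrp.pt k k ⟶ T) {v : V} (hv : v ∈ ρ.fixedUnder iU) : ptAct (comap ρ iT) t v ∈ ρ.fixedUnder iU := by
  refine mem_fixedUnder_of_ptAct ρ iU fun x => ?_
  obtain ⟨y, hy⟩ := hnorm t⁻¹ x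
  rw [ptAct_comap, ← ptAct_mul]
  have e : (x ≫ iU) * (t ≫ iT) = (t ≫ iT) * (y ≫ iU) := by
    rw [← hy, GrpObj.inv_comp]
    group
  rw [e, ptAct_mul, ptAct_of_fixed ρ iU hv y]

end Normal

end Groth.L16.Weights
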